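/-
2-groups of order at least 2^14 whose fourth upper central term has order 16 and in which the
centraliser `W` of the third term has a small Frattini subgroup: first consequences.

Main results: `Hyp.natCard_T`, `Hyp.frattini_eq`, `Hyp.index_W`, `Hyp.natCard_W`,
`Hyp.exists_free`.
-/
import Cfsg.Agent.EqLemmas
import Cfsg.Agent.Lib.MaxClass.Basic
import Cfsg.Agent.Lib.BurnsideBasis.Basic

set_option autoImplicit false

namespace Cfsg.Agent.RudvalisTwo

open Subgroup
open scoped commutatorElement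

variable {T : Type*} [Group T]

/-- The hypotheses. -/
structure Hyp (T : Type*) [Group T] (W : Subgroup T) : Prop where
  isP : IsPGroup 2 T
  card_ge : 2 ^ 14 ≤ Nat.card T
  four : Nat.card ↥(Subgroup.upperCentralSeries T 4) = 16
  W_eq : W = centralizer ((Subgroup.upperCentralSeries T 3 : Subgroup T) : Set T)
  frat_le : Nat.card ↥(frattini ↥W) ≤ 8
  deep : ∀ U : Subgroup ↥W, U.index ≤ 16 → frattini ↥W ≤ U

variable {W : Subgroup T} [Finite T]

theorem Hyp.ucs_ne_top (h : Hyp T W) {i : ℕ} (hi : i ≤ 4) : Subgroup.upperCentralSeries T i ≠ ⊤ := by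
  intro he
  have h4 : Subgroup.upperCentralSeries T 4 = ⊤ := top_le_iff.mp (he ▸ Subgroup.upperCentralSeries_mono T hi)
  have := h.four
  rw [h4, card_top] at this
  have := h.card_ge
  omega

theorem Hyp.card_ucs (h : Hyp T W) {i : ℕ} (hi : i ≤ 4) :
    Nat.card ↥(Subgroup.upperCentralSeries T i) = 2 ^ i := by
  haveI : Fact (Nat.Prime 2) := ⟨Nat.prime_two⟩
  have s : ∀ j ≤ 4, 2 * Nat.card ↥(Subgroup.upperCentralSeries T j) ≤
      Nat.card ↥(Subgroup.upperCentralSeries T (j + 1)) := fun j hj =>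
    PGroup.mul_card_le_of_lt h.isP (MaxClass.upperCentralSeries_lt_succ h.isP (h.ucs_ne_top hj))
  have h0 : Nat.card ↥(Subgroup.upperCentralSeries T 0) = 1 := by
    rw [Subgroup.upperCentralSeries_zero, card_bot]
  have := s 0 (by norm_num)
  have := s 1 (by norm_num)
  have := s 2 (by norm_num)
  have := s 3 (by norm_num)
  have := h.four
  interval_cases i <;> norm_num at * <;> omega

/-- A subgroup containing one term and an element of the next term outside it contains the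
next term. -/
theorem Hyp.ucs_succ_le (h : Hyp T W) {i : ℕ} (hi : i < 4) {K : Subgroup T}
    (hK : Subgroup.upperCentralSeries T i ≤ K) {x : T} (hx : x ∈ K)
    (hx1 : x ∈ Subgroup.upperCentralSeries T (i + 1)) (hx0 : x ∉ Subgroup.upperCentralSeries T i) :
    Subgroup.upperCentralSeries T (i + 1) ≤ K := by
  haveI : Fact (Nat.Prime 2) := ⟨Nat.prime_two⟩
  have hlt : Subgroup.upperCentralSeries T i < K ⊓ Subgroup.upperCentralSeries T (i + 1) :=
    lt_of_le_of_ne (le_inf hK (Subgroup.upperCentralSeries_mono T (Nat.le_succ i))) fun e =>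
      hx0 (e ▸ ⟨hx, hx1⟩)
  have hc := PGroup.mul_card_le_of_lt h.isP hlt
  rw [h.card_ucs hi.le] at hc
  refine le_of_eq_of_le (eq_of_le_of_card_ge inf_le_right ?_).symm inf_le_left
  rw [h.card_ucs (show i + 1 ≤ 4 by omega), pow_succ]
  omega

theorem Hyp.ucs_le_of_card (h : Hyp T W) {N : Subgroup T} (hN : N.Normal) :
    ∀ k ≤ 4, 2 ^ k ≤ Nat.card ↥N → Subgroup.upperCentralSeries T k ≤ N := by
  haveI : Fact (Nat.Prime 2) := ⟨Nat.prime_two⟩
  intro k
  induction k with
  | zero =>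
    intro _ _
    rw [Subgroup.upperCentralSeries_zero]
    exact bot_le
  | succ k ih =>
    intro hk hc
    have hle := ih (by omega) (le_trans (Nat.pow_le_pow_right (by norm_num) (by omega)) hc)
    haveI := hN
    obtain ⟨n, hnN, hnZ⟩ : ∃ n ∈ N, n ∉ Subgroup.upperCentralSeries T k := by
      by_contra hcon
      push Not at hcon
      have := card_le_of_le (show N ≤ Subgroup.upperCentralSeries T k from hcon)
      rw [h.card_ucs (show k ≤ 4 by omega)] at this
      rw [pow_succ] at hc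
      have := Nat.two_pow_pos k
      omega
    let q := QuotientGroup.mk' (Subgroup.upperCentralSeries T k)
    haveI : (N.map q).Normal := hN.map q (QuotientGroup.mk'_surjective _)
    have hne : N.map q ≠ ⊥ := fun e => hnZ ((QuotientGroup.eq_one_iff n).mp
      (mem_bot.mp (e ▸ mem_map_of_mem q hnN)))
    obtain ⟨_, ⟨⟨x, hxN, rfl⟩, hxc⟩, hx1⟩ := (bot_or_exists_ne_one _).resolve_left
      (PGroup.inf_center_ne_bot (h.isP.to_quotient _) hne)
    refine h.ucs_succ_le (by omega) hle hxN (fun y => ?_)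
      (fun e => hx1 ((QuotientGroup.eq_one_iff x).mpr e))
    refine (QuotientGroup.eq_one_iff (N := Subgroup.upperCentralSeries T k) _).mp ?_
    show q ⁅x, y⁆ = 1
    rw [map_commutatorElement, commutatorElement_eq_one_iff_mul_comm]
    exact (mem_center_iff.mp hxc (q y)).symm

theorem Hyp.eq_ucs_of_card (h : Hyp T W) {N : Subgroup T} (hN : N.Normal) {k : ℕ} (hk : k ≤ 4)
    (hc : Nat.card ↥N = 2 ^ k) : N = Subgroup.upperCentralSeries T k :=
  (eq_of_le_of_card_ge (h.ucs_le_of_card hN k hk hc.ge) (by rw [h.card_ucs hk, hc])).symm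

theorem Hyp.normal_W (h : Hyp T W) : W.Normal := by
  rw [h.W_eq]
  exact ⟨fun x hx g => by
    rw [mem_centralizer_iff] at hx ⊢
    intro z hz
    have := hx (g⁻¹ * z * g) ((inferInstance : (Subgroup.upperCentralSeries T 3).Normal).conj_mem' z hz g)
    calc z * (g * x * g⁻¹) = g * ((g⁻¹ * z * g) * x) * g⁻¹ := by group
      _ = g * (x * (g⁻¹ * z * g)) * g⁻¹ := by rw [this]
      _ = g * x * g⁻¹ * z := by group⟩

omit [Finite T] in
theorem Hyp.comm_three (h : Hyp T W) {w z : T} (hw : w ∈ W)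
    (hz : z ∈ Subgroup.upperCentralSeries T 3) : z * w = w * z :=
  mem_centralizer_iff.mp (h.W_eq ▸ hw) z hz

theorem Hyp.exists_gens (h : Hyp T W) :
    ∃ z₁ z₂ z₃ : T, z₁ ∈ Subgroup.upperCentralSeries T 1 ∧ z₁ ≠ 1 ∧
      z₂ ∈ Subgroup.upperCentralSeries T 2 ∧ z₂ ∉ Subgroup.upperCentralSeries T 1 ∧
      z₃ ∈ Subgroup.upperCentralSeries T 3 ∧ z₃ ∉ Subgroup.upperCentralSeries T 2 := by
  have key : ∀ i < 4, ∃ x ∈ Subgroup.upperCentralSeries T (i + 1), x ∉ Subgroup.upperCentralSeries T i := by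
    intro i hi
    by_contra hcon
    push Not at hcon
    have := card_le_of_le (show Subgroup.upperCentralSeries T (i + 1) ≤ Subgroup.upperCentralSeries T i from hcon)
    rw [h.card_ucs (show i + 1 ≤ 4 by omega), h.card_ucs hi.le, pow_succ] at this
    have := Nat.two_pow_pos i
    omega
  obtain ⟨a, ha, ha'⟩ := key 0 (by norm_num)
  obtain ⟨b, hb, hb'⟩ := key 1 (by norm_num)
  obtain ⟨c, hc, hc'⟩ := key 2 (by norm_num)
  exact ⟨a, b, c, ha, fun e => ha' (e ▸ one_mem _), hb, hb', hc, hc'⟩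

theorem Hyp.mem_W_of_comm (h : Hyp T W) {g z₂ z₃ : T} (h2 : z₂ ∈ Subgroup.upperCentralSeries T 2)
    (h2' : z₂ ∉ Subgroup.upperCentralSeries T 1) (h3 : z₃ ∈ Subgroup.upperCentralSeries T 3)
    (h3' : z₃ ∉ Subgroup.upperCentralSeries T 2) (c2 : z₂ * g = g * z₂) (c3 : z₃ * g = g * z₃) :
    g ∈ W := by
  have hle : Subgroup.upperCentralSeries T 3 ≤ centralizer ({g} : Set T) := by
    refine h.ucs_succ_le (by norm_num) (h.ucs_succ_le (by norm_num) ?_
      (mem_centralizer_singleton_iff.mpr c2) h2 h2') (mem_centralizer_singleton_iff.mpr c3) h3 h3'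
    rw [Subgroup.upperCentralSeries_one]
    exact center_le_centralizer _
  rw [h.W_eq, mem_centralizer_iff]
  exact fun z hz => mem_centralizer_singleton_iff.mp (hle hz)

theorem Hyp.index_W_le (h : Hyp T W) : W.index ≤ 8 := by
  obtain ⟨-, z₂, z₃, -, -, h2, h2', h3, h3'⟩ := h.exists_gens
  haveI := h.normal_W
  have hinj : Function.Injective (fun q : T ⧸ W =>
      ((⟨⁅z₂, q.out⁆, Subgroup.mem_upperCentralSeries_succ_iff.mp h2 _⟩ : ↥(Subgroup.upperCentralSeries T 1)),
        (⟨⁅z₃, q.out⁆, Subgroup.mem_upperCentralSeries_succ_iff.mp h3 _⟩ : ↥(Subgroup.upperCentralSeries T 2)))) := by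
    intro p q e
    simp only [Prod.mk.injEq, Subtype.mk.injEq, commutatorElement_def] at e
    have key : ∀ z : T, z * p.out * z⁻¹ * p.out⁻¹ = z * q.out * z⁻¹ * q.out⁻¹ →
        z * (q.out⁻¹ * p.out) = q.out⁻¹ * p.out * z := by
      intro z hz
      have h1 : p.out * z⁻¹ * p.out⁻¹ = q.out * z⁻¹ * q.out⁻¹ :=
        mul_left_cancel (a := z) (by simpa only [mul_assoc] using hz)
      calc z * (q.out⁻¹ * p.out) = q.out⁻¹ * (q.out * z⁻¹ * q.out⁻¹)⁻¹ * p.out := by group
        _ = q.out⁻¹ * p.out * z := by rw [← h1]; group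
    have := h.mem_W_of_comm h2 h2' h3 h3' (key z₂ e.1) (key z₃ e.2)
    rw [← QuotientGroup.out_eq' p, ← QuotientGroup.out_eq' q]
    exact (QuotientGroup.eq.mpr this).symm
  have := Nat.card_le_card_of_injective _ hinj
  rw [Nat.card_prod, h.card_ucs (show 1 ≤ 4 by norm_num), h.card_ucs (show 2 ≤ 4 by norm_num),
    ← index_eq_card] at this
  omega

theorem Hyp.card_W_ge (h : Hyp T W) : 2 ^ 11 ≤ Nat.card ↥W := by
  have h1 := h.index_W_le
  have h2 := W.card_mul_index
  have h3 := h.card_ge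
  nlinarith

theorem Hyp.ucs_le_W (h : Hyp T W) : Subgroup.upperCentralSeries T 4 ≤ W :=
  h.ucs_le_of_card h.normal_W 4 le_rfl (le_trans (by norm_num) h.card_W_ge)

theorem Hyp.comm_three_three (h : Hyp T W) {x y : T} (hx : x ∈ Subgroup.upperCentralSeries T 3)
    (hy : y ∈ Subgroup.upperCentralSeries T 3) : x * y = y * x :=
  h.comm_three (h.ucs_le_W (Subgroup.upperCentralSeries_mono T (by norm_num) hy)) hx

/-- The Frattini subgroup of `W`, inside `T`. -/
def fratW (W : Subgroup T) : Subgroup T := (frattini ↥W).map W.subtype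

omit [Finite T] in
theorem fratW_le (W : Subgroup T) : fratW W ≤ W := map_subtype_le _

theorem Hyp.normal_fratW (h : Hyp T W) : (fratW W).Normal := by
  haveI := h.normal_W
  haveI : (frattini ↥W).Characteristic := frattini_characteristic
  unfold fratW
  infer_instance

theorem Hyp.exists_fratW_eq (h : Hyp T W) : ∃ k ≤ 3, fratW W = Subgroup.upperCentralSeries T k := by
  haveI : Fact (Nat.Prime 2) := ⟨Nat.prime_two⟩
  obtain ⟨k, hk⟩ := IsPGroup.iff_card.mp (h.isP.to_subgroup (fratW W))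
  have hle : Nat.card ↥(fratW W) ≤ 8 := by
    rw [fratW, card_map_of_injective W.subtype_injective]
    exact h.frat_le
  have hk3 : k ≤ 3 := by
    by_contra hc
    have : 2 ^ 4 ≤ 2 ^ k := Nat.pow_le_pow_right (by norm_num) (by omega)
    omega
  exact ⟨k, hk3, h.eq_ucs_of_card h.normal_fratW (by omega) hk⟩

theorem Hyp.fratW_le_three (h : Hyp T W) : fratW W ≤ Subgroup.upperCentralSeries T 3 := by
  obtain ⟨k, hk, e⟩ := h.exists_fratW_eq
  exact e.trans_le (Subgroup.upperCentralSeries_mono T hk)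

theorem Hyp.sq_mem_fratW (h : Hyp T W) {x : T} (hx : x ∈ W) : x * x ∈ fratW W := by
  haveI : Fact (Nat.Prime 2) := ⟨Nat.prime_two⟩
  refine ⟨(⟨x, hx⟩ : ↥W) ^ 2, BurnsideBasis.pow_mem_frattini (h.isP.to_subgroup W) _, ?_⟩
  rw [pow_two, map_mul, Subgroup.subtype_apply]

theorem Hyp.commutator_mem_fratW (h : Hyp T W) {x y : T} (hx : x ∈ W) (hy : y ∈ W) :
    ⁅x, y⁆ ∈ fratW W := by
  haveI : Fact (Nat.Prime 2) := ⟨Nat.prime_two⟩
  exact ⟨⁅(⟨x, hx⟩ : ↥W), ⟨y, hy⟩⁆,
    BurnsideBasis.commutatorElement_mem_frattini (h.isP.to_subgroup W) _ _,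
    map_commutatorElement W.subtype _ _⟩

theorem Hyp.le_of_relIndex (h : Hyp T W) {U : Subgroup T} (hU : U ≤ W)
    (hi : U.relIndex W ≤ 16) : fratW W ≤ U := by
  refine (map_mono (h.deep (U.subgroupOf W) hi)).trans ?_
  rw [subgroupOf_map_subtype]
  exact inf_le_left

/-- The main count: `W/Φ(W)` is the group algebra of `T/W`. -/
theorem Hyp.main (h : Hyp T W) :
    fratW W = Subgroup.upperCentralSeries T 3 ∧ W.index = 8 ∧ Nat.card ↥W = 2 ^ 11 ∧
      ∃ f : T → Bool, (∀ x ∈ W, ∀ y ∈ W, f (x * y) = xor (f x) (f y)) ∧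
        (∀ x ∈ fratW W, f x = false) ∧
        (∀ x ∈ W, (∀ g, f (g * x * g⁻¹) = false) → x ∈ fratW W) ∧
        ∃ x₀ ∈ W, ∀ g : T, f (g * x₀ * g⁻¹) = true ↔ g ∈ W := by
  classical
  haveI : Fact (Nat.Prime 2) := ⟨Nat.prime_two⟩
  haveI := h.normal_W
  obtain ⟨k, hk, hF⟩ := h.exists_fratW_eq
  have hFc : Nat.card ↥(fratW W) = 2 ^ k := by rw [hF, h.card_ucs (show k ≤ 4 by omega)]
  obtain ⟨v, hv, hv'⟩ : ∃ v ∈ Subgroup.upperCentralSeries T (k + 1), v ∉ fratW W := by
    by_contra hcon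
    push Not at hcon
    have := card_le_of_le (show Subgroup.upperCentralSeries T (k + 1) ≤ fratW W from hcon)
    rw [h.card_ucs (show k + 1 ≤ 4 by omega), hFc, pow_succ] at this
    have := Nat.two_pow_pos k
    omega
  have hvW : v ∈ W := h.ucs_le_W (Subgroup.upperCentralSeries_mono T (by omega) hv)
  have hv0 : (⟨v, hvW⟩ : ↥W) ∉ frattini ↥W := fun e => hv' ⟨_, e, rfl⟩
  simp only [frattini, Order.radical, Subgroup.mem_iInf] at hv0
  push Not at hv0
  obtain ⟨M, hM, hvM⟩ := hv0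
  have hidx : M.index = 2 := BurnsideBasis.coatom_index (h.isP.to_subgroup W) hM
  let M' := M.map W.subtype
  have hmem : ∀ x (hx : x ∈ W), x ∈ M' ↔ (⟨x, hx⟩ : ↥W) ∈ M := by
    intro x hx
    constructor
    · rintro ⟨y, hy, e⟩
      exact (show y = ⟨x, hx⟩ from Subtype.ext e) ▸ hy
    · exact fun hy => ⟨_, hy, rfl⟩
  let f : T → Bool := fun x => decide (x ∉ M')
  have hf0 : ∀ x, f x = false ↔ x ∈ M' := fun x => by simp [f]
  have hfmul : ∀ x ∈ W, ∀ y ∈ W, f (x * y) = xor (f x) (f y) := by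
    intro x hx y hy
    have := mul_mem_iff_of_index_two hidx (a := ⟨x, hx⟩) (b := ⟨y, hy⟩)
    rw [← hmem, ← hmem] at this
    simp only [f]
    by_cases a : x ∈ M' <;> by_cases b : y ∈ M' <;> simp_all [MulMemClass.mk_mul_mk]
  have hFM : fratW W ≤ M' := map_mono (frattini_le_coatom hM)
  have hK : M'.normalCore = fratW W := by
    haveI := h.normal_fratW
    refine le_antisymm ?_ (normal_le_normalCore.mpr hFM)
    by_contra hcon
    have hlt : fratW W < M'.normalCore := lt_of_le_not_ge (normal_le_normalCore.mpr hFM) hcon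
    have hc := PGroup.mul_card_le_of_lt h.isP hlt
    rw [hFc] at hc
    have hle := h.ucs_le_of_card (N := M'.normalCore) inferInstance (k + 1) (by omega)
      (by rw [pow_succ]; omega)
    exact hvM ((hmem v hvW).mp (normalCore_le M' (hle hv)))
  have hker : ∀ x ∈ W, (∀ g, f (g * x * g⁻¹) = false) → x ∈ fratW W := fun x _ hx => by
    rw [← hK]
    exact fun g => (hf0 _).mp (hx g)
  have hcW : ∀ {x : T}, x ∈ W → ∀ g : T, g * x * g⁻¹ ∈ W := fun hx g =>
    (inferInstance : W.Normal).conj_mem _ hx g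
  have hfsq : ∀ x ∈ W, f x⁻¹ = f x := by
    intro x hx
    have := hfmul x hx x⁻¹ (inv_mem hx)
    rw [mul_inv_cancel, (hf0 1).mpr (one_mem _)] at this
    revert this
    cases f x <;> cases f x⁻¹ <;> decide
  have hfshift : ∀ x ∈ W, ∀ g : T, ∀ w ∈ W, f ((g * w) * x * (g * w)⁻¹) = f (g * x * g⁻¹) := by
    intro x hx g w hw
    rw [show (g * w) * x * (g * w)⁻¹ = (g * w * g⁻¹) * (g * x * g⁻¹) * (g * w * g⁻¹)⁻¹ by group,
      hfmul _ (mul_mem (hcW hw g) (hcW hx g)) _ (inv_mem (hcW hw g)),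
      hfmul _ (hcW hw g) _ (hcW hx g), hfsq _ (hcW hw g)]
    cases f (g * w * g⁻¹) <;> cases f (g * x * g⁻¹) <;> rfl
  have hout : ∀ x ∈ W, ∀ g : T,
      f ((g : T ⧸ W).out * x * (g : T ⧸ W).out⁻¹) = f (g * x * g⁻¹) := by
    intro x hx g
    obtain ⟨⟨w, hw⟩, e⟩ := QuotientGroup.mk_out_eq_mul W g
    rw [e]
    exact hfshift x hx g w hw
  let S := ↥W ⧸ frattini ↥W
  let φ : S → (T ⧸ W → Bool) := fun s q => f (q.out * (s.out : T) * q.out⁻¹)
  have hφ : Function.Injective φ := by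
    intro s t e
    have hs := (s.out : ↥W).2
    have ht := (t.out : ↥W).2
    have hm : (s.out : T)⁻¹ * t.out ∈ fratW W := by
      refine hker _ (mul_mem (inv_mem hs) ht) fun g => ?_
      rw [show g * ((s.out : T)⁻¹ * t.out) * g⁻¹ =
          (g * (s.out : T) * g⁻¹)⁻¹ * (g * t.out * g⁻¹) by group,
        hfmul _ (inv_mem (hcW hs g)) _ (hcW ht g), hfsq _ (hcW hs g),
        ← hout _ hs g, ← hout _ ht g]
      have := congrFun e (g : T ⧸ W)
      simp only [φ] at this
      rw [this, Bool.xor_self]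
    obtain ⟨y, hy, hye⟩ := hm
    rw [show y = s.out⁻¹ * t.out from Subtype.ext hye] at hy
    rw [← QuotientGroup.out_eq' s, ← QuotientGroup.out_eq' t]
    exact QuotientGroup.eq.mpr hy
  have hS : Nat.card S ≤ 2 ^ W.index := by
    refine (Nat.card_le_card_of_injective φ hφ).trans (le_of_eq ?_)
    rw [Nat.card_fun, index_eq_card, Nat.card_eq_fintype_card (α := Bool), Fintype.card_bool]
  have hWS : Nat.card ↥W = Nat.card S * Nat.card ↥(fratW W) := by
    rw [fratW, card_map_of_injective W.subtype_injective]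
    exact Subgroup.card_eq_card_quotient_mul_card_subgroup _
  have hT := W.card_mul_index
  have hge := h.card_ge
  have hi := h.index_W_le
  have hk3 : 2 ^ k ≤ 2 ^ 3 := Nat.pow_le_pow_right (by norm_num) hk
  have hi' : 2 ^ W.index ≤ 2 ^ 8 := Nat.pow_le_pow_right (by norm_num) hi
  rw [hFc] at hWS
  have hW11 : Nat.card ↥W ≤ 2 ^ 11 := by
    rw [hWS]
    exact (Nat.mul_le_mul (hS.trans hi') hk3).trans_eq (by norm_num)
  have hidx8 : W.index = 8 := by nlinarith
  have hWc : Nat.card ↥W = 2 ^ 11 := le_antisymm hW11 h.card_W_ge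
  have hSc : Nat.card S = 2 ^ 8 ∧ 2 ^ k = 2 ^ 3 := by
    have := hS.trans hi'
    constructor <;> nlinarith
  have hk' : k = 3 := Nat.pow_right_injective (le_refl 2) hSc.2
  refine ⟨hk' ▸ hF, hidx8, hWc, f, hfmul, fun x hx => (hf0 x).mpr (hFM hx), hker, ?_⟩
  have hbij : Function.Bijective φ := by
    refine hφ.bijective_of_nat_card_le ?_
    rw [Nat.card_fun, ← index_eq_card, hidx8, hSc.1, Nat.card_eq_fintype_card (α := Bool),
      Fintype.card_bool]
  obtain ⟨s, hs⟩ := hbij.2 fun q => decide (q = 1)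
  refine ⟨(s.out : ↥W), (s.out : ↥W).2, fun g => ?_⟩
  have := congrFun hs (g : T ⧸ W)
  simp only [φ] at this
  rw [← hout _ (s.out : ↥W).2 g, this, decide_eq_true_eq, QuotientGroup.eq_one_iff]

theorem Hyp.frattini_eq (h : Hyp T W) : fratW W = Subgroup.upperCentralSeries T 3 := h.main.1

theorem Hyp.index_W (h : Hyp T W) : W.index = 8 := h.main.2.1

theorem Hyp.natCard_W (h : Hyp T W) : Nat.card ↥W = 2 ^ 11 := h.main.2.2.1

theorem Hyp.exists_free (h : Hyp T W) :
    ∃ f : T → Bool, (∀ x ∈ W, ∀ y ∈ W, f (x * y) = xor (f x) (f y)) ∧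
      (∀ x ∈ fratW W, f x = false) ∧
      (∀ x ∈ W, (∀ g, f (g * x * g⁻¹) = false) → x ∈ fratW W) ∧
      ∃ x₀ ∈ W, ∀ g : T, f (g * x₀ * g⁻¹) = true ↔ g ∈ W := h.main.2.2.2

theorem Hyp.natCard_T (h : Hyp T W) : Nat.card T = 2 ^ 14 := by
  rw [← W.card_mul_index, h.natCard_W, h.index_W]
  norm_num

end Cfsg.Agent.RudvalisTwo
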