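/-
The derived subgroup of `W` is the third upper central term, and `T/W` is dihedral of order 8.

Main results: `Hyp.derived_eq`, `Hyp.three_sq`, `Hyp.natCard_abelianization`, `Hyp.exists_frame`.
-/
import Cfsg.Agent.Lib.RudvalisTwo.Basic

set_option autoImplicit false

namespace Cfsg.Agent.RudvalisTwo

open Subgroup
open scoped commutatorElement

variable {T : Type*} [Group T] {W : Subgroup T} [Finite T]

theorem Hyp.frat_comm (h : Hyp T W) {z : T} (hz : z ∈ fratW W) {w : T} (hw : w ∈ W) :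
    z * w = w * z :=
  h.comm_three hw (h.fratW_le_three hz)

theorem Hyp.two_index (h : Hyp T W) {a b : T} (ha : a ∈ Subgroup.upperCentralSeries T 3)
    (hb : b ∈ Subgroup.upperCentralSeries T 3) :
    a * b ∈ Subgroup.upperCentralSeries T 2 ↔
      (a ∈ Subgroup.upperCentralSeries T 2 ↔ b ∈ Subgroup.upperCentralSeries T 2) := by
  have hle : Subgroup.upperCentralSeries T 2 ≤ Subgroup.upperCentralSeries T 3 :=
    Subgroup.upperCentralSeries_mono T (by norm_num)
  have hidx : ((Subgroup.upperCentralSeries T 2).subgroupOf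
      (Subgroup.upperCentralSeries T 3)).index = 2 := by
    have e := ((Subgroup.upperCentralSeries T 2).subgroupOf
      (Subgroup.upperCentralSeries T 3)).card_mul_index
    rw [Nat.card_congr (subgroupOfEquivOfLe hle).toEquiv, h.card_ucs (show 2 ≤ 4 by norm_num),
      h.card_ucs (show 3 ≤ 4 by norm_num)] at e
    omega
  exact mul_mem_iff_of_index_two hidx (a := ⟨a, ha⟩) (b := ⟨b, hb⟩)

theorem Hyp.derived_eq (h : Hyp T W) :
    (commutator ↥W).map W.subtype = Subgroup.upperCentralSeries T 3 := by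
  haveI : Fact (Nat.Prime 2) := ⟨Nat.prime_two⟩
  haveI := h.normal_W
  set D := (commutator ↥W).map W.subtype with hD
  have hDn : D.Normal := by rw [hD]; infer_instance
  have hmem : ∀ x ∈ W, ∀ y ∈ W, ⁅x, y⁆ ∈ D := fun x hx y hy =>
    ⟨⁅(⟨x, hx⟩ : ↥W), ⟨y, hy⟩⁆, commutator_mem_commutator (mem_top _) (mem_top _),
      map_commutatorElement W.subtype _ _⟩
  have hD3 : D ≤ Subgroup.upperCentralSeries T 3 := by
    rw [← h.frattini_eq]
    refine map_mono ((_root_.commutator_eq_closure ↥W).trans_le ((closure_le _).mpr ?_))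
    rintro _ ⟨a, b, rfl⟩
    exact BurnsideBasis.commutatorElement_mem_frattini (h.isP.to_subgroup W) a b
  by_contra hne
  obtain ⟨j, hj⟩ := IsPGroup.iff_card.mp (h.isP.to_subgroup D)
  have hj2 : j ≤ 2 := by
    by_contra hc
    refine hne (eq_of_le_of_card_ge hD3 ?_)
    rw [hj, h.card_ucs (show 3 ≤ 4 by norm_num)]
    exact Nat.pow_le_pow_right (by norm_num) (by omega)
  have hD2 : D ≤ Subgroup.upperCentralSeries T 2 := by
    rw [h.eq_ucs_of_card hDn (by omega) hj]
    exact Subgroup.upperCentralSeries_mono T hj2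
  obtain ⟨-, -, z, -, -, -, -, hz, hz'⟩ := h.exists_gens
  have h2W : Subgroup.upperCentralSeries T 2 ≤ W :=
    (Subgroup.upperCentralSeries_mono T (by norm_num)).trans h.ucs_le_W
  have hzW : z ∈ W := h.ucs_le_W (Subgroup.upperCentralSeries_mono T (by norm_num) hz)
  have hsq : ∀ x ∈ W, x * x ∈ Subgroup.upperCentralSeries T 3 := fun x hx =>
    h.fratW_le_three (h.sq_mem_fratW hx)
  obtain ⟨U, ⟨hU2, hUW, hzU⟩, hmax⟩ := Set.Finite.exists_maximal
    (Set.toFinite {U : Subgroup T | Subgroup.upperCentralSeries T 2 ≤ U ∧ U ≤ W ∧ z ∉ U})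
    ⟨Subgroup.upperCentralSeries T 2, le_rfl, h2W, hz'⟩
  have hK : ∀ x ∈ W, x * x ∈ Subgroup.upperCentralSeries T 2 → x ∈ U ∨ x * z⁻¹ ∈ U := by
    intro x hx hxx
    by_cases hxU : x ∈ U
    · exact Or.inl hxU
    have hconj : ∀ u ∈ U, x * u * x⁻¹ ∈ U := fun u hu => by
      rw [show x * u * x⁻¹ = ⁅x, u⁆ * u by rw [commutatorElement_def]; group]
      exact mul_mem (hU2 (hD2 (hmem x hx u (hUW hu)))) hu
    have hconj' : ∀ u ∈ U, x⁻¹ * u * x ∈ U := fun u hu => by
      rw [show x⁻¹ * u * x = ⁅x⁻¹, u⁆ * u by rw [commutatorElement_def]; group]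
      exact mul_mem (hU2 (hD2 (hmem _ (inv_mem hx) u (hUW hu)))) hu
    let U' : Subgroup T :=
      { carrier := {y | y ∈ U ∨ y * x⁻¹ ∈ U}
        one_mem' := Or.inl (one_mem _)
        mul_mem' := by
          rintro a b (ha | ha) (hb | hb)
          · exact Or.inl (mul_mem ha hb)
          · exact Or.inr (by rw [mul_assoc]; exact mul_mem ha hb)
          · refine Or.inr ?_
            rw [show a * b * x⁻¹ = (a * x⁻¹) * (x * b * x⁻¹) by group]
            exact mul_mem ha (hconj b hb)
          · refine Or.inl ?_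
            rw [show a * b = (a * x⁻¹) * (x * (b * x⁻¹) * x⁻¹) * (x * x) by group]
            exact mul_mem (mul_mem ha (hconj _ hb)) (hU2 hxx)
        inv_mem' := by
          rintro a (ha | ha)
          · exact Or.inl (inv_mem ha)
          · refine Or.inr ?_
            rw [show a⁻¹ * x⁻¹ = (x⁻¹ * (a * x⁻¹)⁻¹ * x) * (x * x)⁻¹ by group]
            exact mul_mem (hconj' _ (inv_mem ha)) (inv_mem (hU2 hxx)) }
    have hxU' : x ∈ U' := Or.inr (by rw [mul_inv_cancel]; exact one_mem _)
    have hzU' : z ∈ U' := by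
      by_contra hc
      refine hxU ((hmax ⟨fun y hy => Or.inl (hU2 hy), ?_, hc⟩ (fun y hy => Or.inl hy)) hxU')
      rintro y (hy | hy)
      · exact hUW hy
      · simpa using mul_mem (hUW hy) hx
    rcases hzU' with h1 | h1
    · exact absurd h1 hzU
    · refine Or.inr ?_
      rw [show x * z⁻¹ = (z * x⁻¹)⁻¹ by group]
      exact inv_mem h1
  have hcov : ∃ a ∈ W, ∀ x ∈ W, ∃ b c : Bool,
      x * (bif b then a⁻¹ else 1) * (bif c then z⁻¹ else 1) ∈ U := by
    have hK' : ∀ x ∈ W, x * x ∈ Subgroup.upperCentralSeries T 2 →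
        ∃ c : Bool, x * (bif c then z⁻¹ else 1) ∈ U := fun x hx hxx =>
      (hK x hx hxx).elim (fun hu => ⟨false, by simpa using hu⟩) fun hu => ⟨true, by simpa using hu⟩
    by_cases hall : ∀ x ∈ W, x * x ∈ Subgroup.upperCentralSeries T 2
    · refine ⟨1, one_mem _, fun x hx => ?_⟩
      obtain ⟨c, hc⟩ := hK' x hx (hall x hx)
      exact ⟨false, c, by simpa using hc⟩
    · push Not at hall
      obtain ⟨a, ha, haa⟩ := hall
      refine ⟨a, ha, fun x hx => ?_⟩
      by_cases hxx : x * x ∈ Subgroup.upperCentralSeries T 2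
      · obtain ⟨c, hc⟩ := hK' x hx hxx
        exact ⟨false, c, by simpa using hc⟩
      · obtain ⟨c, hc⟩ := hK' (x * a⁻¹) (mul_mem hx (inv_mem ha)) (by
          have hai : a⁻¹ * a⁻¹ ∉ Subgroup.upperCentralSeries T 2 := fun e =>
            haa (by simpa [← mul_inv_rev] using e)
          rw [show x * a⁻¹ * (x * a⁻¹) = (x * x) * ⁅x⁻¹, a⁻¹⁆ * (a⁻¹ * a⁻¹) by
            rw [commutatorElement_def]; group]
          refine (h.two_index (mul_mem (hsq x hx) (hD3 (hmem _ (inv_mem hx) _ (inv_mem ha))))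
            (hsq _ (inv_mem ha))).mpr ?_
          simp only [hai, iff_false]
          exact fun e => hxx ((mul_mem_cancel_right (hD2 (hmem _ (inv_mem hx) _ (inv_mem ha)))).mp e))
        exact ⟨true, c, by simpa using hc⟩
  obtain ⟨a, ha, hcov⟩ := hcov
  choose! b c hbc using hcov
  have hle : Nat.card ↥W ≤ 4 * Nat.card ↥U := by
    let g : ↥W → (Bool × Bool) × ↥U := fun x => ((b x, c x), ⟨_, hbc x x.2⟩)
    have hg : Function.Injective g := fun x y e => by
      simp only [g, Prod.mk.injEq, Subtype.mk.injEq] at e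
      obtain ⟨⟨e1, e2⟩, e3⟩ := e
      rw [e1, e2] at e3
      exact Subtype.ext (mul_right_cancel (mul_right_cancel e3))
    have := Nat.card_le_card_of_injective g hg
    simpa [Nat.card_prod] using this
  have hrel := U.subgroupOf W |>.card_mul_index
  rw [Nat.card_congr (subgroupOfEquivOfLe hUW).toEquiv] at hrel
  have hpos : 0 < Nat.card ↥U := Nat.card_pos
  have := h.le_of_relIndex hUW (show (U.subgroupOf W).index ≤ 16 by nlinarith)
  exact hzU (this (h.frattini_eq ▸ hz))

theorem Hyp.three_sq (h : Hyp T W) {z : T} (hz : z ∈ Subgroup.upperCentralSeries T 3) :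
    z * z = 1 := by
  haveI := h.normal_W
  let E : Subgroup T :=
    { carrier := {z | z ∈ Subgroup.upperCentralSeries T 3 ∧ z * z = 1}
      one_mem' := ⟨one_mem _, one_mul 1⟩
      mul_mem' := by
        rintro a b ⟨ha, ha2⟩ ⟨hb, hb2⟩
        refine ⟨mul_mem ha hb, ?_⟩
        rw [show a * b * (a * b) = a * (b * a) * b by group, ← h.comm_three_three ha hb,
          show a * (a * b) * b = (a * a) * (b * b) by group, ha2, hb2, one_mul]
      inv_mem' := by
        rintro a ⟨ha, ha2⟩
        exact ⟨inv_mem ha, by rw [← mul_inv_rev, ha2, inv_one]⟩ }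
  suffices hle : (commutator ↥W).map W.subtype ≤ E from (hle (h.derived_eq ▸ hz)).2
  rw [map_le_iff_le_comap, commutator_eq_closure, closure_le]
  rintro _ ⟨⟨x, hx⟩, ⟨y, hy⟩, rfl⟩
  show W.subtype ⁅(⟨x, hx⟩ : ↥W), ⟨y, hy⟩⁆ ∈ E
  rw [map_commutatorElement]
  show ⁅x, y⁆ ∈ E
  have hc := h.commutator_mem_fratW hx hy
  refine ⟨h.fratW_le_three hc, ?_⟩
  have h1 : ⁅x * x, y⁆ = 1 := commutatorElement_eq_one_iff_mul_comm.mpr
    (h.frat_comm (h.sq_mem_fratW hx) hy)
  have e : ⁅x * x, y⁆ = x * ⁅x, y⁆ * x⁻¹ * ⁅x, y⁆ := by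
    rw [commutatorElement_def, commutatorElement_def]
    group
  rw [e, ← h.frat_comm hc hx, mul_inv_cancel_right] at h1
  exact h1

theorem Hyp.natCard_abelianization (h : Hyp T W) :
    Nat.card (↥W ⧸ commutator ↥W) = 2 ^ 8 ∧ ∀ x : ↥W ⧸ commutator ↥W, x ^ 2 = 1 := by
  haveI : Fact (Nat.Prime 2) := ⟨Nat.prime_two⟩
  have he : commutator ↥W = frattini ↥W :=
    map_injective W.subtype_injective (h.derived_eq.trans h.frattini_eq.symm)
  constructor
  · have := Subgroup.card_eq_card_quotient_mul_card_subgroup (commutator ↥W)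
    rw [h.natCard_W, ← card_map_of_injective W.subtype_injective, h.derived_eq,
      h.card_ucs (show 3 ≤ 4 by norm_num)] at this
    omega
  · intro x
    obtain ⟨y, rfl⟩ := QuotientGroup.mk_surjective x
    rw [← QuotientGroup.mk_pow, QuotientGroup.eq_one_iff, he]
    exact BurnsideBasis.pow_mem_frattini (h.isP.to_subgroup W) y

/-- `z` or `1`. -/
def pw (z : T) (b : Bool) : T := bif b then z else 1

omit [Finite T] in
theorem pw_mem {K : Subgroup T} {z : T} (hz : z ∈ K) (b : Bool) : pw z b ∈ K := by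
  cases b
  · exact one_mem K
  · exact hz

omit [Finite T] in
theorem pw_xor {z : T} (hz : z * z = 1) (a b : Bool) : pw z (xor a b) = pw z a * pw z b := by
  cases a <;> cases b <;> simp [pw, hz]

/-- Heisenberg coordinates to the dihedral group of order 8. -/
def dih : Bool → Bool → Bool → DihedralGroup 4
  | false, false, false => .r 0
  | true, true, false => .r 1
  | false, false, true => .r 2
  | true, true, true => .r 3
  | true, false, false => .sr 0
  | false, true, true => .sr 1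
  | true, false, true => .sr 2
  | false, true, false => .sr 3

theorem dih_mul : ∀ a b c a' b' c' : Bool,
    dih (xor a a') (xor b b') (xor (xor c c') (a && b')) = dih a b c * dih a' b' c' := by
  decide

theorem dih_injective : ∀ a b c a' b' c' : Bool,
    dih a b c = dih a' b' c' → a = a' ∧ b = b' ∧ c = c' := by
  decide

/-- The action on the third upper central term. -/
theorem Hyp.exists_frame (h : Hyp T W) :
    ∃ ρ : T →* DihedralGroup 4, ρ.ker = W ∧ Function.Surjective ρ ∧
      ∀ g z : T, z ∈ Subgroup.upperCentralSeries T 3 → z ∉ Subgroup.upperCentralSeries T 2 →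
        g * z * g⁻¹ = z → ρ g = 1 ∨ ρ g = .sr 0 ∨ ρ g = .sr 2 := by
  classical
  obtain ⟨z₁, z₂, z₃, h1, h1', h2, h2', h3, h3'⟩ := h.exists_gens
  have h13 : z₁ ∈ Subgroup.upperCentralSeries T 3 :=
    Subgroup.upperCentralSeries_mono T (by norm_num) h1
  have h23 : z₂ ∈ Subgroup.upperCentralSeries T 3 :=
    Subgroup.upperCentralSeries_mono T (by norm_num) h2
  have h12 : z₁ ∈ Subgroup.upperCentralSeries T 2 :=
    Subgroup.upperCentralSeries_mono T (by norm_num) h1
  have hcen : ∀ g : T, g * z₁ = z₁ * g := fun g => by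
    rw [Subgroup.upperCentralSeries_one] at h1
    exact mem_center_iff.mp h1 g
  have hd1 : ∀ x ∈ Subgroup.upperCentralSeries T 1, ∃ a, x = pw z₁ a := by
    intro x hx
    by_contra hc
    push Not at hc
    have hcard : Nat.card ↥(Subgroup.upperCentralSeries T 1) = 2 := by
      rw [h.card_ucs (show 1 ≤ 4 by norm_num)]; norm_num
    obtain ⟨u, v, huv, huniv⟩ := Nat.card_eq_two_iff.mp hcard
    have hall : ∀ t : ↥(Subgroup.upperCentralSeries T 1), t = u ∨ t = v := fun t => by
      have : t ∈ ({u, v} : Set _) := huniv ▸ Set.mem_univ t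
      simpa using this
    have e1 : (⟨x, hx⟩ : ↥(Subgroup.upperCentralSeries T 1)) ≠ 1 := fun e => hc false (congrArg Subtype.val e)
    have e2 : (⟨x, hx⟩ : ↥(Subgroup.upperCentralSeries T 1)) ≠ ⟨z₁, h1⟩ :=
      fun e => hc true (congrArg Subtype.val e)
    have e3 : (⟨z₁, h1⟩ : ↥(Subgroup.upperCentralSeries T 1)) ≠ 1 :=
      fun e => h1' (congrArg Subtype.val e)
    rcases hall ⟨x, hx⟩ with a | a <;> rcases hall 1 with b | b <;>
      rcases hall ⟨z₁, h1⟩ with c | c <;> simp_all
  have hd2 : ∀ x ∈ Subgroup.upperCentralSeries T 2, ∃ b c, x = pw z₂ b * pw z₁ c := by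
    intro x hx
    let E : Subgroup T :=
      { carrier := {x | ∃ b c, x = pw z₂ b * pw z₁ c}
        one_mem' := ⟨false, false, by simp [pw]⟩
        mul_mem' := by
          rintro _ _ ⟨b, c, rfl⟩ ⟨b', c', rfl⟩
          refine ⟨xor b b', xor c c', ?_⟩
          rw [pw_xor (h.three_sq h23), pw_xor (h.three_sq h13),
            show pw z₂ b * pw z₁ c * (pw z₂ b' * pw z₁ c') =
              pw z₂ b * (pw z₁ c * pw z₂ b') * pw z₁ c' by group,
            h.comm_three_three (pw_mem h13 c) (pw_mem h23 b')]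
          group
        inv_mem' := by
          rintro _ ⟨b, c, rfl⟩
          refine ⟨b, c, inv_eq_of_mul_eq_one_right ?_⟩
          exact h.three_sq (mul_mem (pw_mem h23 b) (pw_mem h13 c)) }
    refine h.ucs_succ_le (i := 1) (K := E) (by norm_num) ?_ ?_ h2 h2' hx
    · intro y hy
      obtain ⟨a, rfl⟩ := hd1 y hy
      exact ⟨false, a, by simp [pw]⟩
    · exact ⟨true, false, by simp [pw]⟩
  have hex : ∀ g : T, ∃ a b c, g * z₂ * g⁻¹ = z₂ * pw z₁ a ∧
      g * z₃ * g⁻¹ = z₃ * (pw z₂ b * pw z₁ c) := by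
    intro g
    obtain ⟨a, ha⟩ := hd1 _ (Subgroup.mem_upperCentralSeries_succ_iff.mp (inv_mem h2) g)
    obtain ⟨b, c, hbc⟩ := hd2 _ (Subgroup.mem_upperCentralSeries_succ_iff.mp (inv_mem h3) g)
    exact ⟨a, b, c, by rw [← ha, commutatorElement_def]; group,
      by rw [← hbc, commutatorElement_def]; group⟩
  have huniq : ∀ {a b c a' b' c' : Bool}, z₂ * pw z₁ a = z₂ * pw z₁ a' →
      z₃ * (pw z₂ b * pw z₁ c) = z₃ * (pw z₂ b' * pw z₁ c') → a = a' ∧ b = b' ∧ c = c' := by
    intro a b c a' b' c' e1 e2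
    have hp : ∀ {u v : Bool}, pw z₁ u = pw z₁ v → u = v := by
      intro u v e
      cases u <;> cases v <;> simp_all [pw, eq_comm]
    have hb : b = b' := by
      have e : (pw z₂ b')⁻¹ * pw z₂ b = pw z₁ c' * (pw z₁ c)⁻¹ := by
        rw [inv_mul_eq_iff_eq_mul, ← mul_assoc, ← mul_left_cancel e2, mul_inv_cancel_right]
      have hin : (pw z₂ b')⁻¹ * pw z₂ b ∈ Subgroup.upperCentralSeries T 1 :=
        e ▸ mul_mem (pw_mem h1 _) (inv_mem (pw_mem h1 _))
      cases b <;> cases b' <;> simp_all [pw]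
    subst hb
    exact ⟨hp (mul_left_cancel e1), rfl, hp (mul_left_cancel (mul_left_cancel e2))⟩
  choose A B C hA hBC using hex
  have hmul : ∀ g g', dih (A (g * g')) (B (g * g')) (C (g * g')) =
      dih (A g) (B g) (C g) * dih (A g') (B g') (C g') := by
    intro g g'
    have cpw : ∀ b : Bool, g * pw z₁ b * g⁻¹ = pw z₁ b := fun b => by
      cases b <;> simp [pw, hcen g]
    have cb : g * pw z₂ (B g') * g⁻¹ = pw z₂ (B g') * pw z₁ (A g && B g') := by
      cases B g'
      · simp [pw]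
      · simpa [pw] using hA g
    obtain ⟨u1, u2, u3⟩ := huniq (a := A (g * g')) (a' := xor (A g) (A g')) (b := B (g * g'))
      (b' := xor (B g) (B g')) (c := C (g * g'))
      (c' := xor (xor (C g) (C g')) (A g && B g')) (by
        rw [← hA, show g * g' * z₂ * (g * g')⁻¹ = g * (g' * z₂ * g'⁻¹) * g⁻¹ by group, hA,
          show g * (z₂ * pw z₁ (A g')) * g⁻¹ = g * z₂ * g⁻¹ * (g * pw z₁ (A g') * g⁻¹) by group,
          hA, cpw, pw_xor (h.three_sq h13), mul_assoc]) (by
        rw [← hBC, show g * g' * z₃ * (g * g')⁻¹ = g * (g' * z₃ * g'⁻¹) * g⁻¹ by group, hBC,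
          show g * (z₃ * (pw z₂ (B g') * pw z₁ (C g'))) * g⁻¹ = g * z₃ * g⁻¹ *
            (g * pw z₂ (B g') * g⁻¹ * (g * pw z₁ (C g') * g⁻¹)) by group,
          hBC, cb, cpw, pw_xor (h.three_sq h23), pw_xor (h.three_sq h13),
          pw_xor (h.three_sq h13)]
        have m := fun x y (hx : x ∈ Subgroup.upperCentralSeries T 3)
          (hy : y ∈ Subgroup.upperCentralSeries T 3) => h.comm_three_three hx hy
        have e1 := m _ _ (pw_mem h13 (C g)) (pw_mem h23 (B g'))
        have e2 := m _ _ (pw_mem h13 (A g && B g')) (pw_mem h13 (C g'))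
        calc z₃ * (pw z₂ (B g) * pw z₁ (C g)) *
              (pw z₂ (B g') * pw z₁ (A g && B g') * pw z₁ (C g'))
            = z₃ * (pw z₂ (B g) * (pw z₁ (C g) * pw z₂ (B g')) *
                (pw z₁ (A g && B g') * pw z₁ (C g'))) := by group
          _ = _ := by rw [e1, e2]; group)
    rw [u1, u2, u3, dih_mul]
  let ρ : T →* DihedralGroup 4 := MonoidHom.mk' (fun g => dih (A g) (B g) (C g)) hmul
  have h0 : A 1 = false ∧ B 1 = false ∧ C 1 = false :=
    huniq (by rw [← hA]; simp [pw]) (by rw [← hBC]; simp [pw])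
  have hker : ρ.ker = W := by
    ext g
    rw [MonoidHom.mem_ker]
    constructor
    · intro hg
      have hg' : dih (A g) (B g) (C g) = dih (A 1) (B 1) (C 1) := hg.trans (map_one ρ).symm
      obtain ⟨a, b, c⟩ := dih_injective _ _ _ _ _ _ hg'
      refine h.mem_W_of_comm h2 h2' h3 h3' ?_ ?_
      · have := hA g
        rw [a, h0.1] at this
        simp only [pw, cond_false, mul_one, mul_inv_eq_iff_eq_mul] at this
        exact this.symm
      · have := hBC g
        rw [b, c, h0.2.1, h0.2.2] at this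
        simp only [pw, cond_false, mul_one, mul_inv_eq_iff_eq_mul] at this
        exact this.symm
    · intro hg
      obtain ⟨a, b, c⟩ := huniq (a := A g) (a' := A 1) (b := B g) (b' := B 1) (c := C g)
        (c' := C 1)
        (by rw [← hA, ← hA, ← h.comm_three hg h23]; group)
        (by rw [← hBC, ← hBC, ← h.comm_three hg h3]; group)
      show dih (A g) (B g) (C g) = 1
      rw [a, b, c]
      exact map_one ρ
  refine ⟨ρ, hker, ?_, ?_⟩
  · rw [← MonoidHom.range_eq_top]
    refine Subgroup.eq_top_of_card_eq _ ?_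
    rw [← Subgroup.index_ker, hker, h.index_W, DihedralGroup.nat_card]
  · intro g z hz hz' hgz
    have hq : z₃⁻¹ * z ∈ Subgroup.upperCentralSeries T 2 := by
      rw [h.two_index (inv_mem h3) hz, inv_mem_iff]
      exact iff_of_false h3' hz'
    obtain ⟨i, j, hij⟩ := hd2 _ hq
    have e : z = z₃ * (pw z₂ i * pw z₁ j) := by rw [← hij, mul_inv_cancel_left]
    have cpw : ∀ b : Bool, g * pw z₁ b * g⁻¹ = pw z₁ b := fun b => by
      cases b <;> simp [pw, hcen g]
    have ci : g * pw z₂ i * g⁻¹ = pw z₂ i * pw z₁ (A g && i) := by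
      cases i
      · simp [pw]
      · simpa [pw] using hA g
    rw [e, show g * (z₃ * (pw z₂ i * pw z₁ j)) * g⁻¹ =
      g * z₃ * g⁻¹ * (g * pw z₂ i * g⁻¹ * (g * pw z₁ j * g⁻¹)) by group, hBC, ci, cpw,
      mul_assoc] at hgz
    have hgz' := mul_left_cancel hgz
    have e1 : pw z₂ (B g) * pw z₁ (xor (C g) (A g && i)) * (pw z₂ i * pw z₁ j) =
        1 * (pw z₂ i * pw z₁ j) := by
      rw [one_mul, pw_xor (h.three_sq h13)]
      conv_rhs => rw [← hgz']
      have := h.comm_three_three (pw_mem h13 (A g && i)) (pw_mem h23 i)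
      calc pw z₂ (B g) * (pw z₁ (C g) * pw z₁ (A g && i)) * (pw z₂ i * pw z₁ j)
          = pw z₂ (B g) * pw z₁ (C g) * ((pw z₁ (A g && i) * pw z₂ i) * pw z₁ j) := by group
        _ = _ := by rw [this]
    obtain ⟨-, hb, hc⟩ := huniq (a := false) (a' := false) (b' := false) (c' := false) rfl
      (show z₃ * (pw z₂ (B g) * pw z₁ (xor (C g) (A g && i))) =
        z₃ * (pw z₂ false * pw z₁ false) by rw [mul_right_cancel e1]; simp [pw])
    show dih (A g) (B g) (C g) = 1 ∨ dih (A g) (B g) (C g) = .sr 0 ∨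
      dih (A g) (B g) (C g) = .sr 2
    rw [hb]
    revert hc
    cases A g <;> cases C g <;> cases i <;> decide

end Cfsg.Agent.RudvalisTwo
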