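/-
The centre of `W` has order 8: otherwise the quadratic form modulo the second upper central
term would have a totally singular subspace of dimension 5.

Main results: `Hyp.center_eq`, `Hyp.natCard_center`.
-/
import Cfsg.Agent.Lib.RudvalisTwo.Derived

set_option autoImplicit false

namespace Cfsg.Agent.RudvalisTwo

open Subgroup
open scoped commutatorElement

/-! ### Numerical part -/

/-- The elements of the dihedral group of order 8. -/
def el (i : ℕ) : DihedralGroup 4 := bif Nat.blt i 4 then .r (i : ZMod 4) else .sr (i : ZMod 4)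

/-- The number of an element. -/
def idx : DihedralGroup 4 → ℕ
  | .r i => i.val
  | .sr i => 4 + i.val

def kk (i j : ℕ) : ℕ := idx ((el i)⁻¹ * el j)

/-- A sum over the bits of `u` below `n`. -/
def acc : ℕ → ℕ → (ℕ → Bool) → Bool
  | 0, _, _ => false
  | n + 1, u, h => xor (acc n u h) (u.testBit n && h n)

def bfun (b1 b4 : Bool) (d : ℕ) : Bool :=
  (d == 1 && b1) || ((d == 3 && b1) || ((d == 4 && b4) || (d == 6 && b4)))

def blf (b : ℕ → Bool) (u v : ℕ) : Bool := acc 8 u fun i => acc 8 v fun j => b (kk i j)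

def qf (c : Bool) (b : ℕ → Bool) : ℕ → ℕ → Bool
  | 0, _ => false
  | n + 1, v => xor (qf c b n v) (v.testBit n && xor c (acc n v fun i => b (kk i n)))

def witTbl : List ℕ := [68853957121, 142019724547, 275146998785, 279744416261, 343731864065,
  344403281155, 137741599745, 284022671877]

def wit (c b1 b4 : Bool) (k : ℕ) : ℕ :=
  ((witTbl.getD ((bif c then 1 else 0) + (bif b1 then 2 else 0) + (bif b4 then 4 else 0)) 0)
    >>> (8 * k)) &&& 255

theorem el_idx : ∀ d : DihedralGroup 4, el (idx d) = d ∧ idx d < 8 := by decide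

theorem idx_el {i : ℕ} (hi : i < 8) : idx (el i) = i := by
  interval_cases i <;> rfl

theorem el_inj {i j : ℕ} (hi : i < 8) (hj : j < 8) (h : el i = el j) : i = j := by
  rw [← idx_el hi, ← idx_el hj, h]

theorem kk_lt (i j : ℕ) : kk i j < 8 := (el_idx _).2

theorem wit_singular : ∀ c b1 b4 : Bool, ∀ k < 5, qf c (bfun b1 b4) 8 (wit c b1 b4 k) = false := by
  decide +kernel

theorem wit_isotropic : ∀ c b1 b4 : Bool, ∀ k < 5, ∀ l < 5,
    blf (bfun b1 b4) (wit c b1 b4 k) (wit c b1 b4 l) = false := by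
  decide +kernel

theorem wit_indep : ∀ c b1 b4 : Bool, ∀ e < 32, ∀ e' < 32,
    (∀ j < 8, (acc 5 e fun k => (wit c b1 b4 k).testBit j) =
      acc 5 e' fun k => (wit c b1 b4 k).testBit j) → e = e' := by
  decide +kernel

theorem acc_congr {h h' : ℕ → Bool} : ∀ {n u : ℕ}, (∀ i < n, h i = h' i) → acc n u h = acc n u h'
  | 0, _, _ => rfl
  | n + 1, u, H => by
    simp only [acc]
    rw [acc_congr fun i hi => H i (by omega), H n (by omega)]

theorem acc_eq (u j : ℕ) : ∀ n, (acc n u fun i => decide (i = j)) = (decide (j < n) && u.testBit j)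
  | 0 => by simp [acc]
  | n + 1 => by
    simp only [acc, acc_eq u j n]
    rcases lt_trichotomy j n with h | h | h
    · have : n ≠ j := by omega
      simp [h, this, show j < n + 1 by omega]
    · subst h; simp
    · have : n ≠ j := by omega
      simp [this, show ¬ j < n by omega, show ¬ j < n + 1 by omega]

/-- The product of the `a i` over the bits of `v` below `n`. -/
def pr {G : Type*} [Group G] (a : ℕ → G) : ℕ → ℕ → G
  | 0, _ => 1
  | n + 1, v => pr a n v * pw (a n) (v.testBit n)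

theorem pr_mem {G : Type*} [Group G] {K : Subgroup G} {a : ℕ → G} :
    ∀ {n : ℕ}, (∀ i < n, a i ∈ K) → ∀ v, pr a n v ∈ K
  | 0, _, _ => one_mem K
  | n + 1, h, v => mul_mem (pr_mem (fun i hi => h i (by omega)) v) (by
      cases v.testBit n
      · exact one_mem K
      · exact h n (by omega))

theorem map_pr {G H : Type*} [Group G] [Group H] (φ : G →* H) (a : ℕ → G) (v : ℕ) :
    ∀ n, φ (pr a n v) = pr (φ ∘ a) n v
  | 0 => map_one φ
  | n + 1 => by
    simp only [pr, map_mul, map_pr φ a v n]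
    cases v.testBit n <;> simp [pw]

/-- An additive Boolean function of a product. -/
theorem fun_pr {G : Type*} [Group G] {K : Subgroup G} (φ : G → Bool)
    (h1 : φ 1 = false) (hm : ∀ x ∈ K, ∀ y ∈ K, φ (x * y) = xor (φ x) (φ y)) {a : ℕ → G} :
    ∀ {n : ℕ}, (∀ i < n, a i ∈ K) → ∀ v, φ (pr a n v) = acc n v fun i => φ (a i)
  | 0, _, _ => h1
  | n + 1, h, v => by
    have ih := fun_pr φ h1 hm (n := n) (fun i hi => h i (by omega)) v
    simp only [pr, acc]
    rw [hm _ (pr_mem (fun i hi => h i (by omega)) v) _ (by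
      cases v.testBit n
      · exact one_mem K
      · exact h n (by omega)), ih]
    cases v.testBit n <;> simp [pw, h1]

/-- Multiplying a product of commuting involutions by one of them. -/
theorem pr_mul {G : Type*} [Group G] {a : ℕ → G} :
    ∀ {n k : ℕ}, k < n → (∀ i < n, a i * a i = 1) → (∀ i < n, ∀ j < n, a i * a j = a j * a i) →
      ∀ v, pr a n (v ^^^ 2 ^ k) = pr a n v * a k
  | 0, k, hk, _, _, _ => absurd hk (Nat.not_lt_zero k)
  | n + 1, k, hk, hsq, hcm, v => by
    have hlow : ∀ (m : ℕ), m ≤ k → pr a m (v ^^^ 2 ^ k) = pr a m v := by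
      intro m
      induction m with
      | zero => intro _; rfl
      | succ m ih =>
        intro hm
        simp only [pr, ih (by omega)]
        simp [Nat.testBit_two_pow, show k ≠ m by omega]
    rcases Nat.lt_succ_iff_lt_or_eq.mp hk with h | h
    · have ih := pr_mul (a := a) h (fun i hi => hsq i (by omega))
        (fun i hi j hj => hcm i (by omega) j (by omega)) v
      simp only [pr, ih]
      have hb : (v ^^^ 2 ^ k).testBit n = v.testBit n := by
        simp [Nat.testBit_two_pow, show k ≠ n by omega]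
      rw [hb]
      cases v.testBit n
      · simp [pw]
      · simp only [pw, cond_true, mul_assoc, hcm k hk n (by omega)]
    · subst h
      simp only [pr, hlow k le_rfl, mul_assoc]
      rw [show (v ^^^ 2 ^ k).testBit k = !(v.testBit k) by simp]
      cases v.testBit k <;> simp [pw, hsq k hk]

variable {T : Type*} [Group T] {W : Subgroup T} [Finite T]

theorem Hyp.not_radical (h : Hyp T W) {ρ : T →* DihedralGroup 4} (hρ : ρ.ker = W)
    (hfix : ∀ g z : T, z ∈ Subgroup.upperCentralSeries T 3 →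
      z ∉ Subgroup.upperCentralSeries T 2 →
        g * z * g⁻¹ = z → ρ g = 1 ∨ ρ g = .sr 0 ∨ ρ g = .sr 2)
    {f : T → Bool} (hf : ∀ x ∈ W, ∀ y ∈ W, f (x * y) = xor (f x) (f y))
    (hf0 : ∀ x ∈ fratW W, f x = false) {x₀ : T} (hx₀ : x₀ ∈ W)
    (hδ : ∀ g : T, f (g * x₀ * g⁻¹) = true ↔ g ∈ W) {g : ℕ → T}
    (hg : ∀ i < 8, ρ (g i) = el i)
    (hrad : ∀ x ∈ W, ⁅x, pr (fun i => g i * x₀ * (g i)⁻¹) 8 255⁆ ∈
      Subgroup.upperCentralSeries T 2) : False := by
  classical
  haveI := h.normal_W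
  set Z := Subgroup.upperCentralSeries T 2 with hZ
  let x : ℕ → T := fun i => g i * x₀ * (g i)⁻¹
  have hx : ∀ i, x i ∈ W := fun i => (inferInstance : W.Normal).conj_mem _ hx₀ _
  let β : T → T → Bool := fun a b => decide (⁅a, b⁆ ∉ Z)
  let q : T → Bool := fun a => decide (a * a ∉ Z)
  have hdec : ∀ {a b : T}, a ∈ Subgroup.upperCentralSeries T 3 →
      b ∈ Subgroup.upperCentralSeries T 3 →
      decide (a * b ∉ Z) = xor (decide (a ∉ Z)) (decide (b ∉ Z)) := fun ha hb => by
    have := h.two_index ha hb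
    rw [← hZ] at this
    simp only [this]
    rename_i a b
    by_cases a ∈ Z <;> by_cases b ∈ Z <;> simp_all
  have hc3 : ∀ {a b : T}, a ∈ W → b ∈ W → ⁅a, b⁆ ∈ Subgroup.upperCentralSeries T 3 :=
    fun ha hb => h.fratW_le_three (h.commutator_mem_fratW ha hb)
  have βswap : ∀ a b, β a b = β b a := fun a b => by
    simp only [β, ← commutatorElement_inv a b, inv_mem_iff]
  have βright : ∀ a ∈ W, ∀ b ∈ W, ∀ c ∈ W, β a (b * c) = xor (β a b) (β a c) := by
    intro a ha b hb c hc
    have e : ⁅a, b * c⁆ = ⁅a, b⁆ * (b * ⁅a, c⁆ * b⁻¹) := by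
      simp only [commutatorElement_def]; group
    rw [← h.comm_three hb (hc3 ha hc), mul_inv_cancel_right] at e
    simp only [β, e]
    exact hdec (hc3 ha hb) (hc3 ha hc)
  have βleft : ∀ a ∈ W, ∀ b ∈ W, ∀ c ∈ W, β (b * c) a = xor (β b a) (β c a) := fun a ha b hb c hc => by
    rw [βswap, βright a ha b hb c hc, βswap a b, βswap a c]
  have β1 : ∀ a, β a 1 = false ∧ β 1 a = false := fun a => by
    simp [β, one_mem]
  have qmul : ∀ a ∈ W, ∀ b ∈ W, q (a * b) = xor (xor (q a) (q b)) (β a b) := by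
    intro a ha b hb
    have e : a * b * (a * b) = (a * a) * ⁅a⁻¹, b⁆ * (b * b) := by
      rw [commutatorElement_def]; group
    have e' : ⁅a⁻¹, b⁆ = ⁅a, b⁆⁻¹ := by
      have e'' : ⁅a⁻¹, b⁆ = a⁻¹ * ⁅a, b⁆⁻¹ * a := by simp only [commutatorElement_def]; group
      rw [e'', mul_assoc, h.comm_three ha (inv_mem (hc3 ha hb)), ← mul_assoc, inv_mul_cancel,
        one_mul]
    have m1 := h.fratW_le_three (h.sq_mem_fratW ha)
    have m2 := h.fratW_le_three (h.sq_mem_fratW hb)
    simp only [q, β, e, e']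
    rw [hdec (mul_mem m1 (inv_mem (hc3 ha hb))) m2, hdec m1 (inv_mem (hc3 ha hb))]
    simp only [inv_mem_iff]
    cases decide (a * a ∉ Z) <;> cases decide (b * b ∉ Z) <;> cases decide (⁅a, b⁆ ∉ Z) <;> rfl
  have βconj : ∀ t a b, β (t * a * t⁻¹) (t * b * t⁻¹) = β a b := fun t a b => by
    simp only [β, ← conjugate_commutatorElement]
    refine decide_eq_decide.mpr (not_congr ⟨fun hm => ?_,
      fun hm => (inferInstance : Z.Normal).conj_mem _ hm t⟩)
    have := (inferInstance : Z.Normal).conj_mem _ hm t⁻¹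
    simpa [mul_assoc] using this
  have βfrat : ∀ a ∈ W, ∀ z ∈ fratW W, β a z = false := fun a ha z hz => by
    simp only [β, commutatorElement_eq_one_iff_mul_comm.mpr (h.frat_comm hz ha).symm]
    simp [one_mem]
  have hin : ∀ {t : T}, ρ t = 1 → t ∈ W := fun ht => hρ ▸ (MonoidHom.mem_ker.mpr ht)
  have hout : ∀ {t : T}, t ∈ W → ρ t = 1 := fun ht => MonoidHom.mem_ker.mp (hρ.symm ▸ ht)
  let b : ℕ → Bool := fun d => β x₀ (x d)
  have hpair : ∀ i < 8, ∀ j < 8, β (x i) (x j) = b (kk i j) := by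
    intro i hi j hj
    set k := kk i j with hk
    have hek : el k = (el i)⁻¹ * el j := (el_idx _).1
    have hw : (g k)⁻¹ * ((g i)⁻¹ * g j) ∈ W := hin (by
      rw [map_mul, map_inv, map_mul, map_inv, hg k (kk_lt i j), hg i hi, hg j hj, hek,
        inv_mul_cancel])
    set w := (g k)⁻¹ * ((g i)⁻¹ * g j) with hwdef
    have hΦ := (h.normal_fratW).conj_mem _ (h.commutator_mem_fratW hw hx₀) (g k)
    rw [← βconj (g i)⁻¹ (x i) (x j),
      show (g i)⁻¹ * x i * (g i)⁻¹⁻¹ = x₀ by simp only [x]; group,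
      show (g i)⁻¹ * x j * (g i)⁻¹⁻¹ = (g k * ⁅w, x₀⁆ * (g k)⁻¹) * x k by
        simp only [x, hwdef, commutatorElement_def]; group,
      βright _ hx₀ _ (fratW_le W hΦ) _ (hx k), βfrat _ hx₀ _ hΦ, Bool.false_xor]
  have hb0 : b 0 = false := by
    have e0 := hpair 0 (by norm_num) 0 (by norm_num)
    rw [show kk 0 0 = 0 from rfl] at e0
    rw [← e0]
    simp [β, one_mem]
  have hinv : ∀ d < 8, el d * el d = 1 → el d ≠ 1 → el d ≠ .sr 0 → el d ≠ .sr 2 →
      b d = false := by
    intro d hd h2 n1 n2 n3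
    by_contra hb
    have hz : ⁅x₀, x d⁆ ∉ Z := by simpa [b, β] using hb
    have hww : g d * g d ∈ W := hin (by rw [map_mul, hg d hd, h2])
    have hΦ := h.commutator_mem_fratW hww hx₀
    have hfix' : g d * ⁅x₀, x d⁆ * (g d)⁻¹ = ⁅x₀, x d⁆ := by
      have e : g d * ⁅x₀, x d⁆ * (g d)⁻¹ = ⁅x d, ⁅g d * g d, x₀⁆ * x₀⁆ := by
        simp only [x, commutatorElement_def]; group
      have e2 : ⁅x d, ⁅g d * g d, x₀⁆ * x₀⁆ = ⁅x d, x₀⁆ := by
        rw [commutatorElement_def, commutatorElement_def (g₁ := x d) (g₂ := x₀)]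
        calc x d * (⁅g d * g d, x₀⁆ * x₀) * (x d)⁻¹ * (⁅g d * g d, x₀⁆ * x₀)⁻¹
            = (x d * ⁅g d * g d, x₀⁆) * x₀ * (x d)⁻¹ * x₀⁻¹ * ⁅g d * g d, x₀⁆⁻¹ := by group
          _ = ⁅g d * g d, x₀⁆ * (x d * x₀ * (x d)⁻¹ * x₀⁻¹) * ⁅g d * g d, x₀⁆⁻¹ := by
              rw [← h.frat_comm hΦ (hx d)]; group
          _ = _ := by
              rw [h.frat_comm hΦ (mul_mem (mul_mem (mul_mem (hx d) hx₀) (inv_mem (hx d)))
                (inv_mem hx₀)), mul_inv_cancel_right]
      rw [e, e2, ← commutatorElement_inv]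
      exact inv_eq_of_mul_eq_one_right (h.three_sq (hc3 hx₀ (hx d)))
    rcases hfix _ _ (hc3 hx₀ (hx d)) hz hfix' with e | e | e <;> rw [hg d hd] at e
    · exact n1 e
    · exact n2 e
    · exact n3 e
  have hb2 : b 2 = false := hinv 2 (by norm_num) (by decide) (by decide) (by decide) (by decide)
  have hb5 : b 5 = false := hinv 5 (by norm_num) (by decide) (by decide) (by decide) (by decide)
  have hb7 : b 7 = false := hinv 7 (by norm_num) (by decide) (by decide) (by decide) (by decide)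
  have hb3 : b 3 = b 1 := by
    have e1 := hpair 1 (by norm_num) 0 (by norm_num)
    have e2 := hpair 0 (by norm_num) 1 (by norm_num)
    rw [show kk 1 0 = 3 from rfl] at e1
    rw [show kk 0 1 = 1 from rfl] at e2
    rw [← e1, ← e2, βswap]
  have hsum : ∀ u v, β (pr x 8 u) (pr x 8 v) = blf b u v := by
    intro u v
    rw [fun_pr (K := W) (fun a => β a (pr x 8 v)) (β1 _).2
      (fun a ha c hc => βleft _ (pr_mem (fun i _ => hx i) v) a ha c hc) (fun i _ => hx i) u]
    refine acc_congr fun i hi => ?_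
    rw [fun_pr (K := W) (fun a => β (x i) a) (β1 _).1
      (fun a ha c hc => βright _ (hx i) a ha c hc) (fun j _ => hx j) v]
    exact acc_congr fun j hj => hpair i hi j hj
  have hb6 : b 6 = b 4 := by
    have e : β (pr x 8 1) (pr x 8 255) = false := by
      simpa [β] using hrad _ (pr_mem (fun i _ => hx i) 1)
    rw [hsum] at e
    have key : ∀ b' : ℕ → Bool, blf b' 1 255 = xor (xor (xor (xor (xor (xor (xor (b' 0) (b' 1))
        (b' 2)) (b' 3)) (b' 4)) (b' 5)) (b' 6)) (b' 7) := by
      intro b'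
      simp [blf, acc, show kk 0 0 = 0 from rfl, show kk 0 1 = 1 from rfl,
        show kk 0 2 = 2 from rfl, show kk 0 3 = 3 from rfl, show kk 0 4 = 4 from rfl,
        show kk 0 5 = 5 from rfl, show kk 0 6 = 6 from rfl, show kk 0 7 = 7 from rfl,
        Nat.testBit]
    rw [key, hb0, hb2, hb5, hb7, hb3] at e
    revert e
    cases b 1 <;> cases b 4 <;> cases b 6 <;> decide
  have hb : ∀ d < 8, b d = bfun (b 1) (b 4) d := by
    intro d hd
    interval_cases d <;> simp [bfun, hb0, hb2, hb3, hb5, hb6, hb7]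
  have hq : ∀ i < 8, q (x i) = q x₀ := fun i _ => by
    simp only [q, x, show g i * x₀ * (g i)⁻¹ * (g i * x₀ * (g i)⁻¹) = g i * (x₀ * x₀) * (g i)⁻¹ by
      group]
    refine decide_eq_decide.mpr (not_congr ⟨fun hm => ?_,
      fun hm => (inferInstance : Z.Normal).conj_mem _ hm (g i)⟩)
    have := (inferInstance : Z.Normal).conj_mem _ hm (g i)⁻¹
    simpa [mul_assoc] using this
  have hqpr : ∀ n ≤ 8, ∀ v, q (pr x n v) = qf (q x₀) (bfun (b 1) (b 4)) n v := by
    intro n
    induction n with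
    | zero => intro _ v; simp [q, pr, qf, one_mem]
    | succ n ih =>
      intro hn v
      simp only [pr, qf]
      rw [qmul _ (pr_mem (fun i _ => hx i) v) _ (pw_mem (hx n) _), ih (by omega)]
      have e : β (pr x n v) (x n) = acc n v fun i => bfun (b 1) (b 4) (kk i n) := by
        rw [fun_pr (K := W) (fun a => β a (x n)) (β1 _).2
          (fun a ha c hc => βleft _ (hx n) a ha c hc) (fun i _ => hx i) v]
        exact acc_congr fun i hi => (hpair i (by omega) n (by omega)).trans (hb _ (kk_lt i n))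
      cases v.testBit n
      · simp [pw, q, (β1 _).1, one_mem]
      · simp only [pw, cond_true, hq n (by omega), e, Bool.true_and, Bool.xor_assoc]
  -- the totally singular subspace
  let c := q x₀
  let w : ℕ → T := fun k => pr x 8 (wit c (b 1) (b 4) k)
  have hwW : ∀ k, w k ∈ W := fun k => pr_mem (fun i _ => hx i) _
  let mk := QuotientGroup.mk' Z
  have hsqw : ∀ k < 5, (mk ∘ w) k * (mk ∘ w) k = 1 := fun k hk => by
    simp only [Function.comp_apply, mk, QuotientGroup.mk'_apply, ← QuotientGroup.mk_mul,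
      QuotientGroup.eq_one_iff]
    have := (hqpr 8 le_rfl (wit c (b 1) (b 4) k)).trans (wit_singular c (b 1) (b 4) k hk)
    simpa [q] using this
  have hcmw : ∀ k < 5, ∀ l < 5, (mk ∘ w) k * (mk ∘ w) l = (mk ∘ w) l * (mk ∘ w) k := by
    intro k hk l hl
    simp only [Function.comp_apply]
    rw [← commutatorElement_eq_one_iff_mul_comm, ← map_commutatorElement, QuotientGroup.mk'_apply,
      QuotientGroup.eq_one_iff]
    have e : β (w k) (w l) = false := by
      rw [hsum, ← wit_isotropic c (b 1) (b 4) k hk l hl]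
      simp only [blf]
      exact acc_congr fun i _ => acc_congr fun j _ => hb _ (kk_lt i j)
    simpa [β] using e
  let S : Subgroup (T ⧸ Z) :=
    { carrier := {y | ∃ e < 32, pr (mk ∘ w) 5 e = y}
      one_mem' := ⟨0, by norm_num, by simp [pr, pw]⟩
      mul_mem' := by
        rintro _ _ ⟨e, he, rfl⟩ ⟨e', -, rfl⟩
        have : ∀ n ≤ 5, ∃ e'' < 32, pr (mk ∘ w) 5 e'' =
            pr (mk ∘ w) 5 e * pr (mk ∘ w) n e' := by
          intro n
          induction n with
          | zero => exact fun _ => ⟨e, he, by simp [pr]⟩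
          | succ n ih =>
            intro hn
            obtain ⟨e'', h1, h2⟩ := ih (by omega)
            rw [show pr (mk ∘ w) (n + 1) e' = pr (mk ∘ w) n e' * pw ((mk ∘ w) n) (e'.testBit n) from rfl,
              ← mul_assoc, ← h2]
            cases e'.testBit n
            · exact ⟨e'', h1, by simp [pw]⟩
            · refine ⟨e'' ^^^ 2 ^ n, ?_, ?_⟩
              · exact Nat.xor_lt_two_pow (n := 5) h1
                  (Nat.pow_lt_pow_right (by norm_num) (by omega))
              · rw [pr_mul (by omega) hsqw hcmw]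
                simp [pw]
        exact this 5 le_rfl
      inv_mem' := by
        rintro _ ⟨e, he, rfl⟩
        refine ⟨e, he, ?_⟩
        have : ∀ n ≤ 5, pr (mk ∘ w) n e * pr (mk ∘ w) n e = 1 := by
          intro n
          induction n with
          | zero => intro _; simp [pr]
          | succ n ih =>
            intro hn
            have hcomm : Commute (pr (mk ∘ w) n e) ((mk ∘ w) n) :=
              mem_centralizer_singleton_iff.mp (pr_mem (K := centralizer ({(mk ∘ w) n} : Set (T ⧸ Z)))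
                (fun i hi => mem_centralizer_singleton_iff.mpr (hcmw i (by omega) n (by omega))) e)
            simp only [pr]
            cases e.testBit n
            · simp only [pw, cond_false, mul_one]
              exact ih (by omega)
            · simp only [pw, cond_true]
              rw [← hcomm.mul_mul_mul_comm, hsqw n (by omega), ih (by omega), one_mul]
        exact eq_inv_of_mul_eq_one_left (this 5 le_rfl) }
  let U : Subgroup T := S.comap mk
  have hZW : Z ≤ W := (Subgroup.upperCentralSeries_mono T (by norm_num)).trans h.ucs_le_W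
  have hZF : Z ≤ fratW W := h.frattini_eq ▸ Subgroup.upperCentralSeries_mono T (by norm_num)
  have hmem : ∀ {y : T}, y ∈ U → ∃ e < 32, (pr w 5 e)⁻¹ * y ∈ Z := by
    rintro y ⟨e, he, he'⟩
    refine ⟨e, he, QuotientGroup.eq.mp ?_⟩
    show mk (pr w 5 e) = mk y
    rw [map_pr]
    exact he'
  have hUW : U ≤ W := fun y hy => by
    obtain ⟨e, -, he⟩ := hmem hy
    have := mul_mem (pr_mem (n := 5) (fun k _ => hwW k) e) (hZW he)
    rwa [mul_inv_cancel_left] at this
  have hf1 : f 1 = false := hf0 1 (one_mem _)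
  have hcoef : ∀ e, ∀ z ∈ fratW W, ∀ j < 8,
      f ((g j)⁻¹ * (pr w 5 e * z) * (g j)⁻¹⁻¹) =
        acc 5 e fun k => (wit c (b 1) (b 4) k).testBit j := by
    intro e z hz j hj
    have hφ : ∀ a ∈ W, ∀ a' ∈ W, f ((g j)⁻¹ * (a * a') * (g j)⁻¹⁻¹) =
        xor (f ((g j)⁻¹ * a * (g j)⁻¹⁻¹)) (f ((g j)⁻¹ * a' * (g j)⁻¹⁻¹)) := fun a ha a' ha' => by
      rw [← hf _ ((inferInstance : W.Normal).conj_mem _ ha _) _
        ((inferInstance : W.Normal).conj_mem _ ha' _)]
      congr 1
      group
    rw [hφ _ (pr_mem (fun k _ => hwW k) e) _ (fratW_le W hz),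
      hf0 _ (h.normal_fratW.conj_mem _ hz _), Bool.xor_false,
      fun_pr (K := W) (fun a => f ((g j)⁻¹ * a * (g j)⁻¹⁻¹)) (by simpa using hf1) hφ
        (fun k _ => hwW k) e]
    refine acc_congr fun k _ => ?_
    simp only [w]
    rw [fun_pr (K := W) (fun a => f ((g j)⁻¹ * a * (g j)⁻¹⁻¹)) (by simpa using hf1) hφ
        (fun i _ => hx i)]
    rw [acc_congr (h' := fun i => decide (i = j)) fun i hi => ?_, acc_eq]
    · simp [hj]
    · rw [show (g j)⁻¹ * x i * (g j)⁻¹⁻¹ = ((g j)⁻¹ * g i) * x₀ * ((g j)⁻¹ * g i)⁻¹ by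
        simp only [x]; group, Bool.eq_iff_iff, hδ, decide_eq_true_eq]
      constructor
      · intro hm
        have := hout hm
        rw [map_mul, map_inv, hg i hi, hg j hj, inv_mul_eq_one] at this
        exact (el_inj hj hi this).symm
      · rintro rfl
        rw [inv_mul_cancel]
        exact one_mem W
  have hinj : ∀ e < 32, ∀ e' < 32, ∀ z ∈ Z, ∀ z' ∈ Z,
      pr w 5 e * z = pr w 5 e' * z' → e = e' := fun e he e' he' z hz z' hz' heq =>
    wit_indep c (b 1) (b 4) e he e' he' fun j hj => by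
      rw [← hcoef e z (hZF hz) j hj, ← hcoef e' z' (hZF hz') j hj, heq]
  have hcard : 128 ≤ Nat.card ↥U := by
    have hmemU : ∀ (e : Fin 32) (z : ↥Z), pr w 5 e * z.1 ∈ U := fun e z => by
      refine ⟨e, e.2, ?_⟩
      show pr (mk ∘ w) 5 e = mk (pr w 5 e * z.1)
      rw [map_mul, map_pr, show mk z.1 = 1 from (QuotientGroup.eq_one_iff _).mpr z.2, mul_one]
    refine le_trans (le_of_eq ?_) (Nat.card_le_card_of_injective
      (fun p : Fin 32 × ↥Z => (⟨_, hmemU p.1 p.2⟩ : ↥U)) fun p p' e => ?_)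
    · rw [Nat.card_prod, Nat.card_fin, hZ, h.card_ucs (show 2 ≤ 4 by norm_num)]
      norm_num
    · have e' := congrArg Subtype.val e
      have := Fin.ext (hinj _ p.1.2 _ p'.1.2 _ p.2.2 _ p'.2.2 e')
      obtain ⟨p1, p2⟩ := p
      obtain ⟨p1', p2'⟩ := p'
      simp only at this e'
      subst this
      rw [Subtype.ext (mul_left_cancel e')]
  have hrel := U.subgroupOf W |>.card_mul_index
  rw [Nat.card_congr (subgroupOfEquivOfLe hUW).toEquiv, h.natCard_W] at hrel
  have hle := h.le_of_relIndex hUW (show (U.subgroupOf W).index ≤ 16 by nlinarith)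
  obtain ⟨-, -, z, -, -, -, -, hz, hz'⟩ := h.exists_gens
  obtain ⟨e, he, hez⟩ := hmem (hle (h.frattini_eq ▸ hz))
  have he0 : e = 0 := wit_indep c (b 1) (b 4) e he 0 (by norm_num) fun j hj => by
    rw [← hcoef e _ (hZF hez) j hj, mul_inv_cancel_left,
      hf0 _ (h.normal_fratW.conj_mem _ (h.frattini_eq ▸ hz) _)]
    simp [acc]
  subst he0
  exact hz' (by simpa [pr, pw] using hez)

theorem Hyp.center_eq (h : Hyp T W) :
    (Subgroup.center ↥W).map W.subtype = Subgroup.upperCentralSeries T 3 := by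
  haveI := h.normal_W
  obtain ⟨ρ, hρ, hsurj, hfix⟩ := h.exists_frame
  obtain ⟨f, hf, hf0, hker, x₀, hx₀, hδ⟩ := h.exists_free
  have hgex : ∀ i, ∃ g, ρ g = el i := fun i => hsurj (el i)
  choose g hg using hgex
  set C := (Subgroup.center ↥W).map W.subtype with hC
  have hCn : C.Normal := by rw [hC]; infer_instance
  have hle : Subgroup.upperCentralSeries T 3 ≤ C := fun z hz =>
    ⟨⟨z, h.ucs_le_W (Subgroup.upperCentralSeries_mono T (by norm_num) hz)⟩,
      Subgroup.mem_center_iff.mpr fun w => Subtype.ext (h.comm_three w.2 hz).symm, rfl⟩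
  by_contra hne
  haveI : Fact (Nat.Prime 2) := ⟨Nat.prime_two⟩
  have hc := PGroup.mul_card_le_of_lt h.isP (lt_of_le_of_ne hle (Ne.symm hne))
  rw [h.card_ucs (show 3 ≤ 4 by norm_num)] at hc
  have h4 : Subgroup.upperCentralSeries T 4 ≤ C :=
    h.ucs_le_of_card hCn 4 le_rfl (le_trans (by norm_num) hc)
  let x : ℕ → T := fun i => g i * x₀ * (g i)⁻¹
  have hx : ∀ i, x i ∈ W := fun i => (inferInstance : W.Normal).conj_mem _ hx₀ _
  have hcW : ∀ {y : T}, y ∈ W → ∀ t : T, t * y * t⁻¹ ∈ W := fun hy t =>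
    (inferInstance : W.Normal).conj_mem _ hy t
  have hall : ∀ t : T, f (t * pr x 8 255 * t⁻¹) = true := by
    intro t
    rw [fun_pr (K := W) (fun a => f (t * a * t⁻¹)) (by simpa using hf0 1 (one_mem _))
      (fun a ha a' ha' => by
        rw [← hf _ (hcW ha t) _ (hcW ha' t)]
        congr 1
        group) (fun i _ => hx i),
      acc_congr (h' := fun i => decide (i = idx (ρ t)⁻¹)) fun i hi => ?_, acc_eq]
    · simp only [decide_eq_true (el_idx (ρ t)⁻¹).2, Bool.true_and]
      have hlt := (el_idx (ρ t)⁻¹).2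
      generalize idx (ρ t)⁻¹ = j at hlt ⊢
      interval_cases j <;> rfl
    · rw [show t * x i * t⁻¹ = (t * g i) * x₀ * (t * g i)⁻¹ by simp only [x]; group,
        Bool.eq_iff_iff, hδ, decide_eq_true_eq, ← hρ, MonoidHom.mem_ker, map_mul, hg i,
        mul_eq_one_iff_inv_eq]
      constructor
      · intro e; rw [e, idx_el hi]
      · intro e; rw [e]; exact (el_idx _).1.symm
  have hxW : pr x 8 255 ∈ W := pr_mem (fun i _ => hx i) _
  have hmem4 : pr x 8 255 ∈ Subgroup.upperCentralSeries T 4 := by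
    rw [Subgroup.mem_upperCentralSeries_succ_iff]
    intro t
    rw [← h.frattini_eq]
    have hW' : ∀ y ∈ W, f y⁻¹ = f y := fun y hy => by
      have := hf y hy y⁻¹ (inv_mem hy)
      rw [mul_inv_cancel, hf0 1 (one_mem _)] at this
      revert this
      cases f y <;> cases f y⁻¹ <;> decide
    refine hker _ ?_ fun s => ?_
    · rw [commutatorElement_def, show pr x 8 255 * t * (pr x 8 255)⁻¹ * t⁻¹ =
        pr x 8 255 * (t * (pr x 8 255)⁻¹ * t⁻¹) by group]
      exact mul_mem hxW (hcW (inv_mem hxW) t)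
    · rw [show s * ⁅pr x 8 255, t⁆ * s⁻¹ =
          (s * pr x 8 255 * s⁻¹) * ((s * t) * pr x 8 255 * (s * t)⁻¹)⁻¹ by
          rw [commutatorElement_def]; group,
        hf _ (hcW hxW s) _ (inv_mem (hcW hxW (s * t))), hW' _ (hcW hxW (s * t)), hall, hall]
      rfl
  refine h.not_radical hρ hfix hf hf0 hx₀ hδ (fun i _ => hg i) fun y hy => ?_
  obtain ⟨u, hu, hue⟩ := h4 hmem4
  have : y * u.1 = u.1 * y :=
    congrArg Subtype.val (Subgroup.mem_center_iff.mp hu ⟨y, hy⟩)
  have e : (u : T) = pr x 8 255 := hue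
  rw [e] at this
  rw [commutatorElement_eq_one_iff_mul_comm.mpr this]
  exact one_mem _

theorem Hyp.natCard_center (h : Hyp T W) : Nat.card ↥(Subgroup.center ↥W) = 8 := by
  rw [← card_map_of_injective W.subtype_injective, h.center_eq,
    h.card_ucs (show 3 ≤ 4 by norm_num)]
  norm_num

end Cfsg.Agent.RudvalisTwo
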