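/-
Rigidity of 2-groups of Rudvalis type: automorphisms of odd order are trivial, and `W` is the
only subgroup of `T` isomorphic to it.

Main results: `Hyp.aut_eq_one`, `Hyp.range_eq`.
-/
import Cfsg.Agent.Lib.RudvalisTwo.Center
import Cfsg.Agent.Lib.RankTwo.Auto

set_option autoImplicit false

namespace Cfsg.Agent.RudvalisTwo

open Subgroup
open scoped commutatorElement

theorem count_fixed : ∀ k < 8, k ≠ 0 →
    ((List.range 256).filter fun v => (List.range 8).all fun j =>
      v.testBit j == v.testBit (kk k j)).length ≤ 16 := by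
  decide +kernel

variable {T : Type*} [Group T] {W : Subgroup T} [Finite T]

/-- Coordinates on `W` modulo its Frattini subgroup. -/
theorem Hyp.exists_coords (h : Hyp T W) :
    ∃ (ρ : T →* DihedralGroup 4) (g : ℕ → T) (f : T → Bool) (x₀ : T),
      ρ.ker = W ∧ (∀ i, ρ (g i) = el i) ∧ x₀ ∈ W ∧
      (∀ z ∈ fratW W, ∀ t : T, f (t * z * t⁻¹) = false) ∧
      (∀ x ∈ W, ∀ y ∈ W, f (x * y) = xor (f x) (f y)) ∧
      (∀ t : T, ∀ w ∈ W, ∀ x ∈ W, f ((t * w) * x * (t * w)⁻¹) = f (t * x * t⁻¹)) ∧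
      (∀ v, ∀ z ∈ fratW W, ∀ j < 8,
        f ((g j)⁻¹ * (pr (fun i => g i * x₀ * (g i)⁻¹) 8 v * z) * (g j)⁻¹⁻¹) = v.testBit j) ∧
      ∀ x ∈ W, ∃ v < 256, ∃ z ∈ fratW W, x = pr (fun i => g i * x₀ * (g i)⁻¹) 8 v * z := by
  haveI := h.normal_W
  obtain ⟨ρ, hρ, hsurj, -⟩ := h.exists_frame
  obtain ⟨f, hf, hf0, -, x₀, hx₀, hδ⟩ := h.exists_free
  have hgex : ∀ i, ∃ g, ρ g = el i := fun i => hsurj (el i)
  choose g hg using hgex
  have hcW : ∀ {y : T}, y ∈ W → ∀ t : T, t * y * t⁻¹ ∈ W := fun hy t =>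
    (inferInstance : W.Normal).conj_mem _ hy t
  have hf1 : f 1 = false := hf0 1 (one_mem _)
  have hinv : ∀ y ∈ W, f y⁻¹ = f y := fun y hy => by
    have := hf y hy y⁻¹ (inv_mem hy)
    rw [mul_inv_cancel, hf1] at this
    revert this
    cases f y <;> cases f y⁻¹ <;> decide
  let x : ℕ → T := fun i => g i * x₀ * (g i)⁻¹
  have hx : ∀ i, x i ∈ W := fun i => hcW hx₀ _
  have hφ : ∀ t : T, ∀ a ∈ W, ∀ b ∈ W,
      f (t * (a * b) * t⁻¹) = xor (f (t * a * t⁻¹)) (f (t * b * t⁻¹)) := fun t a ha b hb => by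
    rw [← hf _ (hcW ha t) _ (hcW hb t)]
    congr 1
    group
  have hfrat : ∀ z ∈ fratW W, ∀ t : T, f (t * z * t⁻¹) = false := fun z hz t =>
    hf0 _ (h.normal_fratW.conj_mem _ hz t)
  have hcoef : ∀ v, ∀ z ∈ fratW W, ∀ j < 8,
      f ((g j)⁻¹ * (pr x 8 v * z) * (g j)⁻¹⁻¹) = v.testBit j := by
    intro v z hz j hj
    rw [hφ _ _ (pr_mem (fun i _ => hx i) v) _ (fratW_le W hz), hfrat z hz, Bool.xor_false,
      fun_pr (K := W) (fun a => f ((g j)⁻¹ * a * (g j)⁻¹⁻¹)) (by simpa using hf1)
        (hφ _) (fun i _ => hx i),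
      acc_congr (h' := fun i => decide (i = j)) fun i hi => ?_, acc_eq]
    · simp [hj]
    · rw [show (g j)⁻¹ * x i * (g j)⁻¹⁻¹ = ((g j)⁻¹ * g i) * x₀ * ((g j)⁻¹ * g i)⁻¹ by
        simp only [x]; group, Bool.eq_iff_iff, hδ, decide_eq_true_eq, ← hρ, MonoidHom.mem_ker,
        map_mul, map_inv, hg i, hg j, inv_mul_eq_one]
      exact ⟨fun e => (el_inj hj hi e).symm, fun e => by rw [e]⟩
  refine ⟨ρ, g, f, x₀, hρ, hg, hx₀, hfrat, hf, ?_, hcoef, ?_⟩
  · intro t w hw y hy
    rw [show (t * w) * y * (t * w)⁻¹ = (t * w * t⁻¹) * (t * y * t⁻¹) * (t * w * t⁻¹)⁻¹ by group,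
      hf _ (mul_mem (hcW hw t) (hcW hy t)) _ (inv_mem (hcW hw t)), hf _ (hcW hw t) _ (hcW hy t),
      hinv _ (hcW hw t)]
    cases f (t * w * t⁻¹) <;> cases f (t * y * t⁻¹) <;> rfl
  · let Φ : Fin 256 × ↥(fratW W) → ↥W := fun p =>
      ⟨pr x 8 p.1 * p.2.1, mul_mem (pr_mem (fun i _ => hx i) _) (fratW_le W p.2.2)⟩
    have hinj : Function.Injective Φ := by
      rintro ⟨v, z⟩ ⟨v', z'⟩ e
      have e' : pr x 8 v * z.1 = pr x 8 v' * z'.1 := congrArg Subtype.val e
      have hv : v = v' := Fin.ext (Nat.eq_of_testBit_eq fun j => by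
        by_cases hj : j < 8
        · rw [← hcoef v z z.2 j hj, ← hcoef v' z' z'.2 j hj, e']
        · have hb : ∀ u : Fin 256, (u : ℕ).testBit j = false := fun u =>
            Nat.testBit_lt_two_pow (lt_of_lt_of_le u.2
              (show 2 ^ 8 ≤ 2 ^ j from Nat.pow_le_pow_right (by norm_num) (by omega)))
          rw [hb v, hb v'])
      subst hv
      rw [Subtype.ext (mul_left_cancel e')]
    have hbij := hinj.bijective_of_nat_card_le (by
      rw [Nat.card_prod, Nat.card_fin, h.natCard_W, h.frattini_eq,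
        h.card_ucs (show 3 ≤ 4 by norm_num)]
      norm_num)
    intro y hy
    obtain ⟨⟨v, z⟩, e⟩ := hbij.2 ⟨y, hy⟩
    exact ⟨v, v.2, z, z.2, (congrArg Subtype.val e).symm⟩

/-- An element fixed modulo an element fixed by a map, after an odd number of steps. -/
theorem fixed_of_odd {G : Type*} [Group G] (a : MulAut G) {k : ℕ} (hk : Odd k) (ha : a ^ k = 1)
    {z u : G} (hu : a u = u) (hu2 : u * u = 1) (hz : a z = z * u) : u = 1 := by
  have key : ∀ n : ℕ, (a ^ n) z = z * u ^ n := by
    intro n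
    induction n with
    | zero => simp
    | succ n ih =>
      rw [pow_succ', MulAut.mul_apply, ih, map_mul, map_pow, hu, hz, mul_assoc, ← pow_succ']
  obtain ⟨m, rfl⟩ := hk
  have := key (2 * m + 1)
  rw [ha, MulAut.one_apply, pow_succ, pow_mul, pow_two, hu2, one_pow, one_mul] at this
  simpa using this

theorem Hyp.aut_fix_three (h : Hyp T W) {a : MulAut T} {k : ℕ} (hk : Odd k) (ha : a ^ k = 1)
    {z : T} (hz : z ∈ Subgroup.upperCentralSeries T 3) : a z = z := by
  haveI : Fact (Nat.Prime 2) := ⟨Nat.prime_two⟩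
  have hchar : ∀ n, ∀ y ∈ Subgroup.upperCentralSeries T n, a y ∈ Subgroup.upperCentralSeries T n :=
    fun n y hy => by
      have := Subgroup.characteristic_iff_comap_eq.mp
        (inferInstance : (Subgroup.upperCentralSeries T n).Characteristic) a
      rw [← this] at hy
      exact hy
  have key : ∀ n ≤ 3, ∀ y ∈ Subgroup.upperCentralSeries T n, a y = y := by
    intro n
    induction n with
    | zero =>
      intro _ y hy
      rw [Subgroup.upperCentralSeries_zero, mem_bot] at hy
      rw [hy, map_one]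
    | succ n ih =>
      intro hn y hy
      have hle := Subgroup.upperCentralSeries_mono T (Nat.le_succ n)
      by_cases hy' : y ∈ Subgroup.upperCentralSeries T n
      · exact ih (by omega) y hy'
      have hay : a y ∉ Subgroup.upperCentralSeries T n := fun e => by
        have e2 := ih (by omega) _ e
        exact hy' (a.injective e2 ▸ e)
      have hq : y⁻¹ * a y ∈ Subgroup.upperCentralSeries T n := by
        have hidx : ((Subgroup.upperCentralSeries T n).subgroupOf
            (Subgroup.upperCentralSeries T (n + 1))).index = 2 := by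
          have e := ((Subgroup.upperCentralSeries T n).subgroupOf
            (Subgroup.upperCentralSeries T (n + 1))).card_mul_index
          rw [Nat.card_congr (subgroupOfEquivOfLe hle).toEquiv,
            h.card_ucs (show n ≤ 4 by omega), h.card_ucs (show n + 1 ≤ 4 by omega),
            pow_succ] at e
          exact mul_left_cancel₀ (pow_ne_zero n two_ne_zero) e
        exact (mul_mem_iff_of_index_two hidx
          (a := ⟨y⁻¹, inv_mem hy⟩) (b := ⟨a y, hchar _ y hy⟩)).mpr
          (iff_of_false (fun e => hy' (inv_mem_iff.mp e)) hay)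
      have := fixed_of_odd a hk ha (ih (by omega) _ hq)
        (h.three_sq (Subgroup.upperCentralSeries_mono T (show n ≤ 3 by omega) hq))
        (z := y) (mul_inv_cancel_left y (a y)).symm
      rwa [inv_mul_eq_one, eq_comm] at this
  exact key 3 le_rfl z hz

theorem Hyp.aut_prime_eq_one (h : Hyp T W) {a : MulAut T} {q : ℕ} (hq : q.Prime) (hq2 : q ≠ 2)
    (ha : a ^ q = 1) : a = 1 := by
  haveI : Fact (Nat.Prime 2) := ⟨Nat.prime_two⟩
  haveI : Fact q.Prime := ⟨hq⟩
  have hodd : Odd q := hq.odd_of_ne_two hq2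
  obtain ⟨ρ, g, f, x₀, hρ, hg, hx₀, -, -, -, -, hgen⟩ := h.exists_coords
  haveI := h.normal_W
  set Q := T ⧸ frattini T
  let mk : T →* Q := QuotientGroup.mk' (frattini T)
  have hcomm : ∀ x y : Q, x * y = y * x := BurnsideBasis.quotient_mul_comm h.isP
  have hsq : ∀ x : T, mk x * mk x = 1 := fun x => by
    rw [← map_mul, ← pow_two]
    exact (QuotientGroup.eq_one_iff _).mpr (BurnsideBasis.pow_mem_frattini h.isP x)
  have hΦ : ∀ z ∈ fratW W, mk z = 1 := by
    intro z hz
    rw [h.frattini_eq, ← h.derived_eq] at hz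
    obtain ⟨y, hy, rfl⟩ := hz
    have : (commutator ↥W).map (mk.comp W.subtype) = ⊥ := by
      rw [eq_bot_iff, map_le_iff_le_comap, commutator_eq_closure, closure_le]
      rintro _ ⟨u, v, rfl⟩
      show (mk.comp W.subtype) ⁅u, v⁆ ∈ (⊥ : Subgroup Q)
      rw [map_commutatorElement, mem_bot, commutatorElement_eq_one_iff_mul_comm]
      exact hcomm _ _
    exact mem_bot.mp (this ▸ mem_map_of_mem (mk.comp W.subtype) hy)
  have himage : ∀ x ∈ W, mk x = 1 ∨ mk x = mk x₀ := by
    intro x hx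
    obtain ⟨v, -, z, hz, rfl⟩ := hgen x hx
    rw [map_mul, hΦ z hz, mul_one, map_pr]
    have : ∀ n, pr (mk ∘ fun i => g i * x₀ * (g i)⁻¹) n v = 1 ∨
        pr (mk ∘ fun i => g i * x₀ * (g i)⁻¹) n v = mk x₀ := by
      intro n
      induction n with
      | zero => exact Or.inl rfl
      | succ n ih =>
        have e : mk (g n * x₀ * (g n)⁻¹) = mk x₀ := by
          rw [map_mul, map_mul, map_inv, hcomm (mk (g n)), mul_inv_cancel_right]
        simp only [pr, Function.comp_apply, e]
        cases v.testBit n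
        · simpa [pw] using ih
        · rcases ih with i | i <;> simp [pw, i, hsq x₀]
    exact this 8
  have haW : ∀ x ∈ W, a x ∈ W := by
    intro x hx
    rw [h.W_eq, mem_centralizer_iff] at hx ⊢
    intro z hz
    rw [← h.aut_fix_three hodd ha hz, ← map_mul, hx z hz, map_mul]
  have hmod : ∀ t : T, t⁻¹ * a t ∈ W := by
    intro t
    rw [h.W_eq, mem_centralizer_iff]
    intro z hz
    have hc := (inferInstance : (Subgroup.upperCentralSeries T 3).Normal).conj_mem _ hz t
    have h1 := h.aut_fix_three hodd ha hc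
    rw [map_mul, map_mul, map_inv, h.aut_fix_three hodd ha hz] at h1
    calc z * (t⁻¹ * a t) = t⁻¹ * (t * z * t⁻¹) * a t := by group
      _ = t⁻¹ * a t * z := by rw [← h1]; group
  have hfrat : ∀ x ∈ frattini T, a x ∈ frattini T := fun x hx => by
    have := Subgroup.characteristic_iff_comap_eq.mp
      (frattini_characteristic : (frattini T).Characteristic) a
    rw [← this] at hx
    exact hx
  have hW' : ∀ x ∈ W, mk (a x) = mk x := by
    intro x hx
    by_cases h0 : mk x = 1
    · rw [h0]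
      exact (QuotientGroup.eq_one_iff _).mpr (hfrat x ((QuotientGroup.eq_one_iff _).mp h0))
    · have h0' : mk (a x) ≠ 1 := fun e => by
        have e1 : a x ∈ frattini T := (QuotientGroup.eq_one_iff _).mp e
        have : ∀ n : ℕ, (a ^ n) (a x) ∈ frattini T := by
          intro n
          induction n with
          | zero => simpa using e1
          | succ n ih => rw [pow_succ', MulAut.mul_apply]; exact hfrat _ ih
        have e2 := this (q - 1)
        rw [← MulAut.mul_apply, ← pow_succ, Nat.sub_add_cancel hq.pos, ha,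
          MulAut.one_apply] at e2
        exact h0 ((QuotientGroup.eq_one_iff _).mpr e2)
      rw [((himage x hx).resolve_left h0), ((himage _ (haW x hx)).resolve_left h0')]
  refine RankTwo.aut_eq_one_of_frattini h.isP (q := q) hq2 ha fun t => ?_
  set w := t⁻¹ * a t with hw
  have hkey : ∀ n : ℕ, mk ((a ^ n) t) = mk t * mk w ^ n := by
    intro n
    induction n with
    | zero => simp
    | succ n ih =>
      have e : (a ^ (n + 1)) t = (a ^ n) t * ((a ^ n) w) := by
        rw [pow_succ, MulAut.mul_apply, ← map_mul, hw, mul_inv_cancel_left]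
      have e2 : ∀ m : ℕ, (a ^ m) w ∈ W ∧ mk ((a ^ m) w) = mk w := by
        intro m
        induction m with
        | zero => exact ⟨by simpa [hw] using hmod t, by simp⟩
        | succ m ihm =>
          rw [pow_succ', MulAut.mul_apply]
          exact ⟨haW _ ihm.1, (hW' _ ihm.1).trans ihm.2⟩
      rw [e, map_mul, ih, (e2 n).2, pow_succ, mul_assoc]
  have := hkey q
  obtain ⟨m, rfl⟩ := hodd
  rw [ha, MulAut.one_apply, pow_succ, pow_mul, pow_two, hsq, one_pow, one_mul] at this
  exact (QuotientGroup.eq_one_iff _).mp (mul_eq_left.mp this.symm)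

theorem Hyp.aut_eq_one (h : Hyp T W) : ∀ (k : ℕ) (a : MulAut T), Odd k → a ^ k = 1 → a = 1 := by
  intro k
  induction k using Nat.strong_induction_on with
  | _ k ih =>
    intro a hk ha
    by_cases h1 : k = 1
    · rwa [h1, pow_one] at ha
    have hk0 : 0 < k := hk.pos
    have hp := Nat.minFac_prime h1
    have hd := Nat.minFac_dvd k
    have h2 : k.minFac ≠ 2 := fun e =>
      (Nat.not_even_iff_odd.mpr hk) (even_iff_two_dvd.mpr (e ▸ hd))
    have hb : a ^ (k / k.minFac) = 1 := h.aut_prime_eq_one hp h2 (by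
      rw [← pow_mul, Nat.div_mul_cancel hd, ha])
    exact ih _ (Nat.div_lt_self hk0 hp.one_lt) a
      (hk.of_dvd_nat (Nat.div_dvd_of_dvd hd)) hb

/-- A monomorphic image of `W` in `T` is `W`. -/
theorem Hyp.range_eq (h : Hyp T W) {e : ↥W →* T} (he : Function.Injective e) : e.range = W := by
  classical
  haveI : Fact (Nat.Prime 2) := ⟨Nat.prime_two⟩
  haveI := h.normal_W
  set W1 := e.range with hW1
  have hc1 : Nat.card ↥W1 = Nat.card ↥W := (Nat.card_congr (MonoidHom.ofInjective he).toEquiv).symm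
  refine eq_of_le_of_card_ge ?_ hc1.ge
  intro x hx
  by_contra hxW
  set D := W1 ⊓ W with hD
  have hW1i : W1.index = 8 := by
    have := W1.card_mul_index
    rw [hc1, h.natCard_W, h.natCard_T] at this
    omega
  have hrel : D.relIndex W ≤ 8 := by
    rw [hD, inf_relIndex_right, ← hW1i, ← relIndex_top_right W1]
    exact relIndex_le_of_le_right le_top (by rw [relIndex_top_right, hW1i]; norm_num)
  have hZ : fratW W ≤ (frattini ↥W).map e := by
    intro z hz
    have hz1 : z ∈ D := h.le_of_relIndex (show D ≤ W from inf_le_right) (hrel.trans (by norm_num)) hz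
    obtain ⟨y, rfl⟩ := hz1.1
    refine ⟨y, ?_, rfl⟩
    show y ∈ frattini ↥W
    simp only [frattini, Order.radical, Subgroup.mem_iInf]
    intro M hM
    have hidx : M.index = 2 := BurnsideBasis.coatom_index (h.isP.to_subgroup W) hM
    have hM1 : (M.map e).relIndex W1 = 2 := by
      rw [hW1, MonoidHom.range_eq_map, relIndex_map_map_of_injective _ _ he,
        relIndex_top_right, hidx]
    have h2 : (M.map e ⊓ D).relIndex W ≤ 16 := by
      rw [← relIndex_mul_relIndex (M.map e ⊓ D) D W inf_le_right inf_le_right, inf_relIndex_right]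
      have := relIndex_le_of_le_right (H := M.map e) (show D ≤ W1 from inf_le_left)
        (by rw [hM1]; norm_num)
      rw [hM1] at this
      exact (Nat.mul_le_mul this hrel).trans (by norm_num)
    obtain ⟨y', hy', e'⟩ := (h.le_of_relIndex (inf_le_right.trans inf_le_right) h2 hz).1
    exact he e' ▸ hy'
  have hZeq : (frattini ↥W).map e = fratW W := by
    refine (eq_of_le_of_card_ge hZ ?_).symm
    rw [fratW, card_map_of_injective he, card_map_of_injective W.subtype_injective]
  obtain ⟨ρ, g, f, x₀, hρ, hg, hx₀, hfrat, hf, hshift, hcoef, hgen⟩ := h.exists_coords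
  obtain ⟨k, hk, hρx⟩ : ∃ k < 8, ρ x = el k := ⟨_, (el_idx (ρ x)).2, (el_idx (ρ x)).1.symm⟩
  have hk0 : k ≠ 0 := by
    rintro rfl
    exact hxW (hρ ▸ MonoidHom.mem_ker.mpr hρx)
  let L := (List.range 256).filter fun v => (List.range 8).all fun j =>
    v.testBit j == v.testBit (kk k j)
  have hDL : ∀ d : ↥D, ∃ v ∈ L.toFinset, ∃ z ∈ fratW W,
      d.1 = pr (fun i => g i * x₀ * (g i)⁻¹) 8 v * z := by
    rintro ⟨d, hd1, hdW⟩
    obtain ⟨v, hv, z, hz, rfl⟩ := hgen d hdW
    refine ⟨v, ?_, z, hz, rfl⟩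
    refine List.mem_toFinset.mpr (List.mem_filter.mpr ⟨List.mem_range.mpr hv,
      List.all_eq_true.mpr fun j hj => beq_iff_eq.mpr ?_⟩)
    rw [List.mem_range] at hj
    have hm := kk_lt k j
    rw [← hcoef v z hz j hj, ← hcoef v z hz (kk k j) hm]
    set d := pr (fun i => g i * x₀ * (g i)⁻¹) 8 v * z
    obtain ⟨a, ha⟩ := hd1
    obtain ⟨b, hb⟩ := hx
    have hcomm : ⁅x, d⁆ ∈ fratW W := by
      rw [← hZeq, ← ha, ← hb, ← map_commutatorElement]
      exact mem_map_of_mem e (BurnsideBasis.commutatorElement_mem_frattini (h.isP.to_subgroup W) b a)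
    have hconj : x * d * x⁻¹ = ⁅x, d⁆ * d := by rw [commutatorElement_def]; group
    have hw : (g (kk k j)) * ((g j)⁻¹ * x) ∈ W := by
      rw [← hρ, MonoidHom.mem_ker, map_mul, map_mul, map_inv, hg, hg, hρx,
        show el (kk k j) = (el k)⁻¹ * el j from (el_idx _).1]
      group
    have hcW : ∀ {y : T}, y ∈ W → ∀ t : T, t * y * t⁻¹ ∈ W := fun hy t =>
      (inferInstance : W.Normal).conj_mem _ hy t
    calc f ((g j)⁻¹ * d * (g j)⁻¹⁻¹) = f ((g j)⁻¹ * (x * d * x⁻¹) * (g j)⁻¹⁻¹) := by
          rw [hconj, show (g j)⁻¹ * (⁅x, d⁆ * d) * (g j)⁻¹⁻¹ = ((g j)⁻¹ * ⁅x, d⁆ * (g j)⁻¹⁻¹) *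
              ((g j)⁻¹ * d * (g j)⁻¹⁻¹) by group,
            hf _ (hcW (fratW_le W hcomm) _) _ (hcW hdW _), hfrat _ hcomm, Bool.false_xor]
      _ = f (((g (kk k j))⁻¹ * (g (kk k j) * ((g j)⁻¹ * x))) * d *
            ((g (kk k j))⁻¹ * (g (kk k j) * ((g j)⁻¹ * x)))⁻¹) := by
          congr 1; group
      _ = f ((g (kk k j))⁻¹ * d * (g (kk k j))⁻¹⁻¹) := hshift _ _ hw _ hdW
  choose v hv z hz hdz using hDL
  have hle : Nat.card ↥D ≤ 16 * 8 := by
    refine le_trans (Nat.card_le_card_of_injective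
      (fun d => ((⟨v d, hv d⟩ : ↥L.toFinset), (⟨z d, hz d⟩ : ↥(fratW W)))) fun d d' e' => ?_) ?_
    · simp only [Prod.mk.injEq, Subtype.mk.injEq] at e'
      exact Subtype.ext (by rw [hdz d, hdz d', e'.1, e'.2])
    · rw [Nat.card_prod, h.frattini_eq, h.card_ucs (show 3 ≤ 4 by norm_num),
        Nat.card_eq_finsetCard]
      exact Nat.mul_le_mul ((List.toFinset_card_le _).trans (count_fixed k hk hk0)) (by norm_num)
  have e' := (D.subgroupOf W).card_mul_index
  rw [Nat.card_congr (subgroupOfEquivOfLe (show D ≤ W from inf_le_right)).toEquiv,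
    h.natCard_W] at e'
  have : (D.subgroupOf W).index ≤ 8 := hrel
  nlinarith

end Cfsg.Agent.RudvalisTwo
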